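import Cfsg.Agent.Lib.CurtisTits.ChainCol
import Cfsg.Agent.Lib.CurtisTits.DKer
import Cfsg.Agent.S2401

/-!
Homomorphisms out of a special linear group from the elementary relations; conjugates of elementary
matrices under monomial elements; the pairs of indices generated from a base by the type D relations.
-/

set_option autoImplicit false
set_option linter.unusedSectionVars false

namespace CfsgLib.PlusPres

open Matrix CfsgLib.AutPSL CfsgLib.CurtisTitsChain
open scoped MatrixGroups

variable {F : Type*} [Field F] {N : ℕ}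

theorem hom_ext_el {G : Type*} [Group G] {φ ψ : SLg N F →* G}
    (h : ∀ a b, a ≠ b → ∀ t, φ (el a b t) = ψ (el a b t)) : φ = ψ := by
  refine MonoidHom.ext fun A => ?_
  refine CfsgLib.Linear.SL_transvection_induction (fun A => φ A = ψ A) (by rw [map_one, map_one]) ?_
    (fun A B hA hB => by rw [map_mul, map_mul, hA, hB]) A
  intro i j hij t
  rw [← el_eq hij t]
  exact h i j hij t

theorem map_le_of_el {G : Type*} [Group G] {φ : SLg N F →* G} {K : Subgroup G}
    (h : ∀ a b, a ≠ b → ∀ t, φ (el a b t) ∈ K) (A : SLg N F) : φ A ∈ K := by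
  refine CfsgLib.Linear.SL_transvection_induction (fun A => φ A ∈ K) (by rw [map_one]; exact one_mem _) ?_
    (fun A B hA hB => by rw [map_mul]; exact mul_mem hA hB) A
  intro i j hij t
  rw [← el_eq hij t]
  exact h i j hij t

/-- a homomorphism from root elements satisfying the elementary relations -/
theorem exists_elHom [Finite F] {G : Type*} [Group G] (hN : 3 ≤ N) (y : Fin N → Fin N → F → G)
    (hadd : ∀ a b, a ≠ b → ∀ t u, y a b t * y a b u = y a b (t + u))
    (hcomm : ∀ a b c d, a ≠ b → c ≠ d → a ≠ d → b ≠ c → ∀ t u, Commute (y a b t) (y c d u))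
    (hstep : ∀ a b c, a ≠ b → b ≠ c → a ≠ c → ∀ t u, y a b t * y b c u = y a c (t * u) * y b c u * y a b t) :
    ∃ φ : SLg N F →* G, ∀ a b, a ≠ b → ∀ t, φ (el a b t) = y a b t := by
  obtain ⟨e, he⟩ := Cfsg.Agent.S2401.result (K := F) N hN
  let f : {ij : Fin N × Fin N // ij.1 ≠ ij.2} × F → G := fun z => y z.1.1.1 z.1.1.2 z.2
  refine ⟨(PresentedGroup.toGroup (f := f) ?_).comp e.symm.toMonoidHom, fun a b h t => ?_⟩
  · rintro g ((⟨a, t, u, rfl⟩ | ⟨a, b, t, u, h1, h2, rfl⟩) | ⟨a, b, h, t, u, h2, rfl⟩)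
    · simp only [map_mul, map_inv, FreeGroup.lift_apply_of, f]
      rw [hadd _ _ a.2, mul_inv_cancel]
    · simp only [map_mul, map_inv, FreeGroup.lift_apply_of, f]
      rw [(hcomm _ _ _ _ a.2 b.2 h1 h2 t u).eq, mul_inv_cancel_right, mul_inv_cancel]
    · simp only [map_mul, map_inv, FreeGroup.lift_apply_of, f]
      obtain ⟨⟨a1, a2⟩, ha⟩ := a
      obtain ⟨⟨b1, b2⟩, hb⟩ := b
      obtain rfl : a2 = b1 := h2
      rw [hstep a1 a2 b2 ha hb h, mul_inv_cancel_right, mul_inv_cancel_right, mul_inv_cancel]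
  · have : e.symm (el a b t) = PresentedGroup.of (⟨(a, b), h⟩, t) := by
      rw [e.symm_apply_eq]
      apply Subtype.ext
      rw [he, el_eq h]
      rfl
    rw [MonoidHom.comp_apply, MulEquiv.coe_toMonoidHom, this, PresentedGroup.toGroup.of]

/-- conjugating an elementary matrix by an element moving both its coordinates monomially -/
theorem conj_el {g : SLg N F} {a b a' b' : Fin N} {c d : F} (hab : a ≠ b) (hab' : a' ≠ b')
    (ha : g.1 *ᵥ Pi.single a 1 = Pi.single a' c) (hb : (itSL g).1 *ᵥ Pi.single b 1 = Pi.single b' d) (t : F) :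
    g * el a b t * g⁻¹ = el a' b' (c * t * d) := by
  apply Subtype.ext
  refine Matrix.ext_iff_mulVec.2 fun v => ?_
  have hrow : ((g⁻¹).1 *ᵥ v) b = d * v b' := by
    rw [itSL_coe, mulVec_single_one] at hb
    show (g⁻¹).1 b ⬝ᵥ v = _
    rw [show (g⁻¹).1 b = Pi.single b' d from hb, single_dotProduct]
  rw [coe_mulVec, coe_mulVec, el_mulVec hab, el_mulVec hab', mulVec_add, hrow, ← coe_mulVec, mul_inv_cancel,
    show (1 : SLg N F).1 = 1 from rfl, one_mulVec]
  congr 1
  rw [show (Pi.single a (t * (d * v b')) : Fin N → F) = (t * (d * v b')) • Pi.single a 1 by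
    rw [← Pi.single_smul', smul_eq_mul, mul_one], mulVec_smul, ha, ← Pi.single_smul', smul_eq_mul]
  congr 1
  ring

section Base

open CfsgLib.CurtisTitsD

variable {n : ℕ}

/-- a property of pairs closed under the relations of type D and holding on a base holds everywhere -/
theorem all_of_base (P : Fin n ⊕ Fin n → Fin n ⊕ Fin n → Prop) {p r : Fin n} (hpr : p ≠ r)
    (hsymm : ∀ a b, Lok Sum.swap a b → P a b → P b.swap a.swap)
    (hstep : ∀ a b c, Lok Sum.swap a b → Lok Sum.swap b c → Lok Sum.swap a c → P a b → P b c → P a c)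
    (hll : ∀ a b : Fin n, a ≠ b → P (.inl a) (.inl b))
    (h1 : P (.inl p) (.inr r)) (h2 : P (.inr r) (.inl p)) :
    ∀ a b, Lok Sum.swap a b → P a b := by
  have L : ∀ {a b : Fin n}, a ≠ b → Lok Sum.swap (Sum.inl a : Fin n ⊕ Fin n) (.inl b) ∧
      Lok Sum.swap (Sum.inl a : Fin n ⊕ Fin n) (.inr b) ∧ Lok Sum.swap (Sum.inr a : Fin n ⊕ Fin n) (.inl b) ∧
      Lok Sum.swap (Sum.inr a : Fin n ⊕ Fin n) (.inr b) := fun h => by
    simp [Lok, h]
  have hrr : ∀ a b : Fin n, a ≠ b → P (.inr a) (.inr b) := fun a b h => by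
    simpa using hsymm _ _ (L h.symm).1 (hll b a h.symm)
  have hlr_r : ∀ a, a ≠ r → P (.inl a) (.inr r) := fun a h => by
    by_cases hap : a = p
    · subst hap; exact h1
    · exact hstep _ _ _ (L hap).1 (L hpr).2.1 (L h).2.1 (hll a p hap) h1
  have hlr : ∀ a b, a ≠ b → P (.inl a) (.inr b) := fun a b h => by
    by_cases hbr : b = r
    · subst hbr; exact hlr_r a h
    by_cases har : a = r
    · subst har
      simpa using hsymm _ _ (L hbr).2.1 (hlr_r b hbr)
    exact hstep _ _ _ (L har).2.1 (L (Ne.symm hbr)).2.2.2 (L h).2.1 (hlr_r a har) (hrr r b (Ne.symm hbr))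
  have hrl_r : ∀ b, r ≠ b → P (.inr r) (.inl b) := fun b h => by
    by_cases hbp : b = p
    · subst hbp; exact h2
    · exact hstep _ _ _ (L hpr.symm).2.2.1 (L (Ne.symm hbp)).1 (L h).2.2.1 h2 (hll p b (Ne.symm hbp))
  have hrl : ∀ a b, a ≠ b → P (.inr a) (.inl b) := fun a b h => by
    by_cases har : a = r
    · subst har; exact hrl_r b h
    by_cases hbr : b = r
    · subst hbr
      simpa using hsymm _ _ (L (Ne.symm har)).2.2.1 (hrl_r a (Ne.symm har))
    exact hstep _ _ _ (L har).2.2.2 (L (Ne.symm hbr)).2.2.1 (L h).2.2.1 (hrr a r har) (hrl_r b (Ne.symm hbr))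
  intro a b ⟨h1, h2⟩
  rcases a with a | a <;> rcases b with b | b <;>
    simp only [Sum.swap_inl, Sum.swap_inr, ne_eq, Sum.inl.injEq, Sum.inr.injEq] at h1 h2
  · exact hll a b h1
  · exact hlr a b h2
  · exact hrl a b h2
  · exact hrr a b h1

end Base

end CfsgLib.PlusPres
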