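import Cfsg.Agent.Lib.CurtisTits.DRel
import Cfsg.Agent.Lib.PlusPres.Hom
import Cfsg.Agent.Lib.BoundedPres.TwoGen

/-!
A homomorphism of `SL_N` extended by one element behaving as the Weyl element of the root `e_q + e_r`:
the relations of type D follow from few conditions on that element.
-/

set_option autoImplicit false
set_option linter.unusedSectionVars false

namespace CfsgLib.PlusPres

open Matrix CfsgLib.AutPSL CfsgLib.CurtisTitsChain CfsgLib.CurtisTitsD
open scoped MatrixGroups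

variable {F : Type*} [Field F] {N : ℕ}

theorem slExt_single {g h : SLg N F} (e : ∀ i, g.1 *ᵥ Pi.single i 1 = h.1 *ᵥ Pi.single i 1) : g = h := by
  apply Subtype.ext
  ext a b
  have := congrFun (e b) a
  rwa [mulVec_single_one, mulVec_single_one] at this

/-- the Weyl element of a pair of coordinates -/
def wq (a b : Fin N) : SLg N F := el a b 1 * el b a (-1) * el a b 1

/-- its square, with the inverse sign -/
def hq (a b : Fin N) : SLg N F :=
  el a b (-1) * el b a 1 * el a b (-1) * (el a b (-1) * el b a 1 * el a b (-1))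

theorem wq_left {a b : Fin N} (h : a ≠ b) (t : F) :
    (wq a b).1 *ᵥ (Pi.single a t : Fin N → F) = Pi.single b (-t) := by
  rw [wq, coe_mulVec, coe_mulVec, el_single_fix h h, el_single_move h.symm, mulVec_add, el_single_fix h h,
    el_single_move h]
  simp only [neg_mul, one_mul, Pi.single_neg]
  abel

theorem wq_right {a b : Fin N} (h : a ≠ b) (t : F) :
    (wq a b).1 *ᵥ (Pi.single b t : Fin N → F) = Pi.single a t := by
  rw [wq, coe_mulVec, coe_mulVec, el_single_move h, mulVec_add, el_single_fix h.symm h.symm,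
    el_single_move h.symm, mulVec_add, mulVec_add, el_single_fix h h, el_single_move h, el_single_move h]
  simp only [neg_mul, one_mul, Pi.single_neg]
  abel

theorem wq_other {a b i : Fin N} (h : a ≠ b) (ha : i ≠ a) (hb : i ≠ b) (t : F) :
    (wq a b).1 *ᵥ (Pi.single i t : Fin N → F) = Pi.single i t := by
  rw [wq, coe_mulVec, coe_mulVec, el_single_fix h hb, el_single_fix h.symm ha, el_single_fix h hb]

theorem itSL_wq {a b : Fin N} (h : a ≠ b) : itSL (wq (F := F) a b) = wq a b := by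
  refine slExt_single fun i => ?_
  rw [wq, map_mul, map_mul, itSL_el, itSL_el, neg_neg, coe_mulVec, coe_mulVec, ← wq]
  by_cases hia : i = a
  · subst hia
    rw [el_single_move h.symm, mulVec_add, el_single_fix h h, el_single_move h, mulVec_add, mulVec_add,
      el_single_move h.symm, el_single_move h.symm, el_single_fix h.symm h.symm, wq_left h]
    simp only [neg_mul, one_mul, mul_one, Pi.single_neg]
    abel
  by_cases hib : i = b
  · subst hib
    rw [el_single_fix h.symm h.symm, el_single_move h, mulVec_add, el_single_fix h.symm h.symm,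
      el_single_move h.symm, wq_right h]
    simp only [neg_mul, one_mul, mul_one, Pi.single_neg]
    abel
  rw [el_single_fix h.symm hia, el_single_fix h hib, el_single_fix h.symm hia, wq_other h hia hib]

/-- the action on a basis vector -/
theorem wq_exists {a b : Fin N} (h : a ≠ b) (i : Fin N) :
    ∃ c : F, (wq a b).1 *ᵥ Pi.single i 1 = Pi.single (Equiv.swap a b i) c := by
  by_cases hia : i = a
  · subst hia; exact ⟨-1, by rw [Equiv.swap_apply_left, wq_left h]⟩
  by_cases hib : i = b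
  · subst hib; exact ⟨1, by rw [Equiv.swap_apply_right, wq_right h]⟩
  exact ⟨1, by rw [Equiv.swap_apply_of_ne_of_ne hia hib, wq_other h hia hib]⟩

theorem wq_conj {a b : Fin N} (h : a ≠ b) {i j : Fin N} (hij : i ≠ j) (t : F) :
    ∃ t', wq a b * el i j t * (wq a b)⁻¹ = el (Equiv.swap a b i) (Equiv.swap a b j) t' := by
  obtain ⟨c, hc⟩ := wq_exists (F := F) h i
  obtain ⟨d, hd⟩ := wq_exists (F := F) h j
  exact ⟨_, conj_el hij ((Equiv.swap a b).injective.ne hij) hc (by rw [itSL_wq h]; exact hd) t⟩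

theorem diag2n_single {a b : Fin N} (h : a ≠ b) {l : F} (hl : l ≠ 0) (i : Fin N) :
    (SpecialLinearGroup.diag2n h l hl).1 *ᵥ Pi.single i 1 =
      Pi.single i (if i = a then l else if i = b then l⁻¹ else 1) := by
  ext k
  rw [SpecialLinearGroup.diag2n_coe, mulVec_diagonal]
  by_cases hk : k = i
  · subst hk; simp
  · simp [hk]

theorem itSL_diag2n_single {a b : Fin N} (h : a ≠ b) {l : F} (hl : l ≠ 0) (i : Fin N) :
    (itSL (SpecialLinearGroup.diag2n h l hl)).1 *ᵥ Pi.single i 1 =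
      Pi.single i (if i = a then l⁻¹ else if i = b then l else 1) := by
  have e : (SpecialLinearGroup.diag2n h l hl)⁻¹ = SpecialLinearGroup.diag2n h l⁻¹ (inv_ne_zero hl) := by
    refine inv_eq_of_mul_eq_one_right (slExt_single fun i => ?_)
    rw [coe_mulVec, diag2n_single, show (1 : SLg N F).1 = 1 from rfl, one_mulVec]
    ext k
    rw [SpecialLinearGroup.diag2n_coe, mulVec_diagonal]
    by_cases hk : k = i
    · subst hk
      simp only [Pi.single_eq_same]
      split_ifs <;> field_simp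
    · simp [hk]
  rw [itSL_coe, e, SpecialLinearGroup.diag2n_coe, diagonal_transpose]
  ext k
  rw [mulVec_diagonal]
  by_cases hk : k = i
  · subst hk; simp
  · simp [hk]

variable {G : Type*} [Group G]

/-- the pairs of indices whose elementary matrices fix the two coordinates or lie on them -/
def InC (q r a b : Fin N) : Prop :=
  (a ≠ q ∧ a ≠ r ∧ b ≠ q ∧ b ≠ r) ∨ (a = q ∧ b = r) ∨ (a = r ∧ b = q)

/-- the conditions on the additional element -/
structure Ext (Φ : SLg N F →* G) (x : G) (p0 p q r : Fin N) : Prop where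
  card : 4 ≤ N
  n0p : p0 ≠ p
  n0q : p0 ≠ q
  n0r : p0 ≠ r
  npq : p ≠ q
  npr : p ≠ r
  nqr : q ≠ r
  cx : ∀ a b, a ≠ b → InC q r a b → ∀ t, Commute x (Φ (el a b t))
  braid : x * Φ (wq p q) * x = Φ (wq p q) * x * Φ (wq p q)
  cz : ∀ a b, a ≠ b → InC p r a b → ∀ t, Commute (x * Φ (el p q 1) * x⁻¹) (Φ (el a b t))
  kill : x * Φ (hq p q) * x⁻¹ = Φ (hq p r)

namespace Ext

variable {Φ : SLg N F →* G} {x : G} {p0 p q r : Fin N} (X : Ext Φ x p0 p q r)
include X

theorem in0p (a b : Fin N) (h : (a = p0 ∧ b = p) ∨ (a = p ∧ b = p0)) : InC q r a b := by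
  rcases h with ⟨rfl, rfl⟩ | ⟨rfl, rfl⟩
  · exact Or.inl ⟨X.n0q, X.n0r, X.npq, X.npr⟩
  · exact Or.inl ⟨X.npq, X.npr, X.n0q, X.n0r⟩

theorem cx_wq : Commute x (Φ (wq q r)) := by
  rw [wq, map_mul, map_mul]
  exact ((X.cx q r X.nqr (Or.inr (Or.inl ⟨rfl, rfl⟩)) _).mul_right
    (X.cx r q X.nqr.symm (Or.inr (Or.inr ⟨rfl, rfl⟩)) _)).mul_right (X.cx q r X.nqr (Or.inr (Or.inl ⟨rfl, rfl⟩)) _)

theorem cx_diag {l : F} (hl : l ≠ 0) : Commute x (Φ (SpecialLinearGroup.diag2n X.n0p l hl)) := by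
  have h1 := fun t => X.cx p0 p X.n0p (X.in0p _ _ (Or.inl ⟨rfl, rfl⟩)) t
  have h2 := fun t => X.cx p p0 X.n0p.symm (X.in0p _ _ (Or.inr ⟨rfl, rfl⟩)) t
  rw [CfsgLib.Linear.diag2n_eq_prod_transvection]
  simp only [← el_eq, map_mul]
  exact (((((h1 _).mul_right (h2 _)).mul_right (h1 _)).mul_right (h1 _)).mul_right (h2 _)).mul_right (h1 _)

theorem tau_conj : x * Φ (wq p q) * x⁻¹ = (Φ (wq p q))⁻¹ * x * Φ (wq p q) := by
  have h := X.braid
  calc x * Φ (wq p q) * x⁻¹ = (Φ (wq p q))⁻¹ * (Φ (wq p q) * x * Φ (wq p q)) * x⁻¹ := by group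
    _ = (Φ (wq p q))⁻¹ * (x * Φ (wq p q) * x) * x⁻¹ := by rw [h]
    _ = _ := by group

theorem cz_tau {a b : Fin N} (hab : a ≠ b) (hC : InC p r a b) (t : F) :
    Commute (x * Φ (wq p q) * x⁻¹) (Φ (el a b t)) := by
  obtain ⟨t', e⟩ := wq_conj (F := F) X.npq hab t
  have hC' : InC q r (Equiv.swap p q a) (Equiv.swap p q b) := by
    have hp := Equiv.swap_apply_left p q
    have hr := Equiv.swap_apply_of_ne_of_ne X.npr.symm X.nqr.symm
    rcases hC with ⟨h1, h2, h3, h4⟩ | ⟨rfl, rfl⟩ | ⟨rfl, rfl⟩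
    · exact Or.inl ⟨fun e => h1 ((Equiv.swap p q).injective (e.trans hp.symm)),
        fun e => h2 ((Equiv.swap p q).injective (e.trans hr.symm)),
        fun e => h3 ((Equiv.swap p q).injective (e.trans hp.symm)),
        fun e => h4 ((Equiv.swap p q).injective (e.trans hr.symm))⟩
    · exact Or.inr (Or.inl ⟨hp, hr⟩)
    · exact Or.inr (Or.inr ⟨hr, hp⟩)
  have h := X.cx _ _ ((Equiv.swap p q).injective.ne hab) hC' t'
  rw [← e, map_mul, map_mul, map_inv] at h
  rw [X.tau_conj]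
  have := (Commute.conj_iff ((Φ (wq p q))⁻¹)).2 h
  rw [inv_inv] at this
  rwa [show (Φ (wq p q))⁻¹ * (Φ (wq p q) * Φ (el a b t) * (Φ (wq p q))⁻¹) * Φ (wq p q) = Φ (el a b t) by group]
    at this

theorem cz_all {a b : Fin N} (hab : a ≠ b) (hC : InC p r a b) (s t : F) :
    Commute (x * Φ (el p q s) * x⁻¹) (Φ (el a b t)) := by
  by_cases hs : s = 0
  · subst hs; rw [el_zero, map_one, mul_one, mul_inv_cancel]; exact Commute.one_left _
  have hl : s⁻¹ ≠ 0 := inv_ne_zero hs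
  set D := SpecialLinearGroup.diag2n X.n0p s⁻¹ hl with hD
  have ep : D * el p q 1 * D⁻¹ = el p q s := by
    have h1 := diag2n_single X.n0p hl p
    rw [if_neg X.n0p.symm, if_pos rfl, inv_inv] at h1
    have h2 := itSL_diag2n_single X.n0p hl q
    rw [if_neg X.n0q.symm, if_neg X.npq.symm] at h2
    rw [conj_el X.npq X.npq h1 h2, mul_one, mul_one]
  obtain ⟨u, hu⟩ : ∃ u, D * el a b u * D⁻¹ = el a b t := by
    have h1 := diag2n_single X.n0p hl a
    have h2 := itSL_diag2n_single X.n0p hl b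
    set c := (if a = p0 then s⁻¹ else if a = p then s⁻¹⁻¹ else 1) with hc
    set d := (if b = p0 then s⁻¹⁻¹ else if b = p then s⁻¹ else 1) with hd
    have hc0 : c ≠ 0 := by rw [hc]; split_ifs <;> simp [hs]
    have hd0 : d ≠ 0 := by rw [hd]; split_ifs <;> simp [hs]
    exact ⟨t / (c * d), by rw [conj_el hab hab h1 h2]; congr 1; field_simp⟩
  have key := (Commute.conj_iff (Φ D)).2 (X.cz a b hab hC u)
  rw [← hu, map_mul, map_mul, map_inv, ← ep, map_mul, map_mul, map_inv]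
  have hx := X.cx_diag hl
  rw [← hD] at hx
  rwa [show Φ D * (x * Φ (el p q 1) * x⁻¹) * (Φ D)⁻¹ = (Φ D * x) * Φ (el p q 1) * (Φ D * x)⁻¹ by group,
    ← hx.eq, show x * Φ D * Φ (el p q 1) * (x * Φ D)⁻¹ = x * (Φ D * Φ (el p q 1) * (Φ D)⁻¹) * x⁻¹ by group] at key

theorem cy_all {a b : Fin N} (hab : a ≠ b) (hC : InC p r a b) (s t : F) :
    Commute (x * Φ (el q p s) * x⁻¹) (Φ (el a b t)) := by
  have e : wq p q * el p q (-s) * (wq p q)⁻¹ = el q p s := by
    rw [conj_el X.npq X.npq.symm (wq_left X.npq 1) (by rw [itSL_wq X.npq]; exact wq_right X.npq 1)]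
    congr 1; ring
  have h1 := X.cz_tau hab hC t
  have h2 := X.cz_all hab hC (-s) t
  rw [← e, map_mul, map_mul, map_inv, show x * (Φ (wq p q) * Φ (el p q (-s)) * (Φ (wq p q))⁻¹) * x⁻¹ =
    x * Φ (wq p q) * x⁻¹ * (x * Φ (el p q (-s)) * x⁻¹) * (x * Φ (wq p q) * x⁻¹)⁻¹ by group]
  exact (h1.mul_left h2).mul_left h1.inv_left

variable [Finite F]

theorem exists_psi : ∃ ψ : SLg 3 F →* G, ∀ i j, i ≠ j → ∀ t,
    ψ (el i j t) = x * Φ (el (![p0, p, q] i) (![p0, p, q] j) t) * x⁻¹ := by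
  have hinj : ∀ i j : Fin 3, i ≠ j → ![p0, p, q] i ≠ ![p0, p, q] j := by
    intro i j hij
    fin_cases i <;> fin_cases j <;>
      first
      | exact absurd rfl hij
      | simp [X.n0p, X.n0q, X.npq, X.n0p.symm, X.n0q.symm, X.npq.symm]
  refine exists_elHom le_rfl _ (fun a b h t u => ?_) (fun a b c d h1 h2 h3 h4 t u => ?_)
    (fun a b c h1 h2 h3 t u => ?_)
  · rw [el_add, map_mul]; group
  · exact (Commute.conj_iff x).2 ((el_comm (hinj _ _ h1) (hinj _ _ h2) (hinj _ _ h3) (hinj _ _ h4) t u).map Φ)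
  · have := congrArg Φ (el_step (hinj _ _ h1) (hinj _ _ h2) (hinj _ _ h3) t u)
    rw [map_mul, map_mul, map_mul] at this
    have e : ∀ A B : G, x * A * x⁻¹ * (x * B * x⁻¹) = x * (A * B) * x⁻¹ := fun A B => by group
    rw [e, e, e, this]

/-- the branch given by the additional element -/
noncomputable def br : Br Φ p0 p r where
  card := X.card
  n0p := X.n0p
  n0q := X.n0r
  npq := X.npr
  psi := X.exists_psi.choose
  agree01 t := by
    rw [X.exists_psi.choose_spec 0 1 (by decide) t]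
    show _ = x * Φ (el p0 p t) * x⁻¹
    rw [(X.cx p0 p X.n0p (X.in0p _ _ (Or.inl ⟨rfl, rfl⟩)) t).eq, mul_inv_cancel_right]
  agree10 t := by
    rw [X.exists_psi.choose_spec 1 0 (by decide) t]
    show _ = x * Φ (el p p0 t) * x⁻¹
    rw [(X.cx p p0 X.n0p.symm (X.in0p _ _ (Or.inr ⟨rfl, rfl⟩)) t).eq, mul_inv_cancel_right]
  inside a b h h1 h2 h3 h4 s t := by
    rw [X.exists_psi.choose_spec 1 2 (by decide) t, X.exists_psi.choose_spec 2 1 (by decide) t]
    exact ⟨(X.cz_all h (Or.inl ⟨h1, h2, h3, h4⟩) t s).symm, (X.cy_all h (Or.inl ⟨h1, h2, h3, h4⟩) t s).symm⟩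
  pq s t := by
    rw [X.exists_psi.choose_spec 1 2 (by decide) t, X.exists_psi.choose_spec 2 1 (by decide) t]
    have h1 : InC p r p r := Or.inr (Or.inl ⟨rfl, rfl⟩)
    have h2 : InC p r r p := Or.inr (Or.inr ⟨rfl, rfl⟩)
    exact ⟨⟨(X.cz_all X.npr h1 t s).symm, (X.cy_all X.npr h1 t s).symm⟩,
      (X.cz_all X.npr.symm h2 t s).symm, (X.cy_all X.npr.symm h2 t s).symm⟩

theorem psi_el {i j : Fin 3} (h : i ≠ j) (t : F) :
    X.br.psi (el i j t) = x * Φ (el (![p0, p, q] i) (![p0, p, q] j) t) * x⁻¹ :=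
  X.exists_psi.choose_spec i j h t

theorem S_base (t : F) : X.br.S p r t = x * Φ (el p q t) * x⁻¹ :=
  (X.br.col2_base t).trans (X.psi_el (by decide) t)

theorem R_base (t : F) : X.br.R r p t = x * Φ (el q p t) * x⁻¹ := by
  rw [Br.R, X.br.dual.S_swap X.npr.symm, Br.S, X.br.dual.col2_base]
  show X.br.psi (itSL (el 1 2 (-t))) = _
  rw [itSL_el, neg_neg]
  exact X.psi_el (by decide) t

theorem S_p0r (t : F) : X.br.S p0 r t = x * Φ (el p0 q t) * x⁻¹ :=
  (X.br.col2_p0 t).trans (X.psi_el (by decide) t)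

theorem dualS_p0r (t : F) : X.br.dual.S p0 r t = x * Φ (el q p0 (-t)) * x⁻¹ := by
  refine (X.br.dual.col2_p0 t).trans ?_
  show X.br.psi (itSL (el 0 2 t)) = _
  rw [itSL_el]
  exact X.psi_el (by decide) _

theorem base_S (t u : F) : Commute (X.br.S p r t) (X.br.S p0 q u) := by
  have hg := X.br.S_conj (g := wq q r) (wq_other X.nqr X.n0q X.n0r 1) (wq_right X.nqr 1) u
  rw [← hg, X.S_base, X.S_p0r]
  have e : wq q r * el p0 q u * (wq q r)⁻¹ = el p0 r (1 * u * -1) :=
    conj_el X.n0q X.n0r (wq_other X.nqr X.n0q X.n0r 1) (by rw [itSL_wq X.nqr]; exact wq_left X.nqr 1) u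
  have e' : Φ (wq q r) * (x * Φ (el p0 q u) * x⁻¹) * (Φ (wq q r))⁻¹ = x * Φ (el p0 r (1 * u * -1)) * x⁻¹ := by
    rw [← e, map_mul, map_mul, map_inv]
    calc _ = Φ (wq q r) * x * Φ (el p0 q u) * (Φ (wq q r) * x)⁻¹ := by group
      _ = x * Φ (wq q r) * Φ (el p0 q u) * (x * Φ (wq q r))⁻¹ := by rw [X.cx_wq.eq]
      _ = _ := by group
  rw [e']
  exact (Commute.conj_iff x).2 ((el_comm X.npq X.n0r X.npr X.n0q.symm _ _).map Φ)

theorem base_R (t u : F) : Commute (X.br.dual.S p r t) (X.br.dual.S p0 q u) := by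
  have hg := X.br.dual.S_conj (g := wq q r) (wq_other X.nqr X.n0q X.n0r 1) (wq_right X.nqr 1) u
  have h0 : X.br.dual.S p r t = x * Φ (el q p (-t)) * x⁻¹ := by
    refine (X.br.dual.col2_base t).trans ?_
    show X.br.psi (itSL (el 1 2 t)) = _
    rw [itSL_el]
    exact X.psi_el (by decide) _
  rw [← hg, h0, X.dualS_p0r]
  simp only [MonoidHom.comp_apply, MulEquiv.coe_toMonoidHom, itSL_wq X.nqr]
  have e : wq q r * el q p0 (-u) * (wq q r)⁻¹ = el r p0 (-1 * -u * 1) :=
    conj_el X.n0q.symm X.n0r.symm (wq_left X.nqr 1)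
      (by rw [itSL_wq X.nqr]; exact wq_other X.nqr X.n0q X.n0r 1) (-u)
  have e' : Φ (wq q r) * (x * Φ (el q p0 (-u)) * x⁻¹) * (Φ (wq q r))⁻¹ =
      x * Φ (el r p0 (-1 * -u * 1)) * x⁻¹ := by
    rw [← e, map_mul, map_mul, map_inv]
    calc _ = Φ (wq q r) * x * Φ (el q p0 (-u)) * (Φ (wq q r) * x)⁻¹ := by group
      _ = x * Φ (wq q r) * Φ (el q p0 (-u)) * (x * Φ (wq q r))⁻¹ := by rw [X.cx_wq.eq]
      _ = _ := by group
  rw [e']
  exact (Commute.conj_iff x).2 ((el_comm X.npq.symm X.n0r.symm X.n0q.symm X.npr _ _).map Φ)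

end Ext

/-- disjoint pairs commute as soon as one couple of them does -/
theorem disjoint_of_base {Φ : SLg N F →* G} {p0 p q r : Fin N} (E : Br Φ p0 p r) (n0q : p0 ≠ q) (npq : p ≠ q)
    (nqr : q ≠ r) (h : ∀ t u, Commute (E.S p r t) (E.S p0 q u)) {a b c d : Fin N} (hab : a ≠ b) (hcd : c ≠ d)
    (hac : a ≠ c) (had : a ≠ d) (hbc : b ≠ c) (hbd : b ≠ d) (t u : F) :
    Commute (E.S a b t) (E.S c d u) := by
  classical
  haveI : NeZero N := ⟨by have := E.card; omega⟩
  have hf : Function.Injective ![p, r, p0, q] := by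
    intro i j hij
    fin_cases i <;> fin_cases j <;> simp_all [E.n0p, E.n0q, E.npq, E.n0p.symm, E.n0q.symm, E.npq.symm,
      n0q.symm, npq.symm, nqr.symm]
  have hf' : Function.Injective ![a, b, c, d] := by
    intro i j hij
    fin_cases i <;> fin_cases j <;> simp_all [hab.symm, hcd.symm, hac.symm, had.symm, hbc.symm, hbd.symm]
  set σ : Equiv.Perm (Fin N) :=
    ((Equiv.ofInjective _ hf).symm.trans (Equiv.ofInjective _ hf')).extendSubtype with hσ'
  have hσ : ∀ i, σ (![p, r, p0, q] i) = ![a, b, c, d] i := fun i => by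
    rw [hσ', Equiv.extendSubtype_apply_of_mem _ _ ⟨i, rfl⟩]
    simp [Equiv.ofInjective_symm_apply]
  set s : Fin N → F := CfsgLib.BoundedPres.signFun σ
  have hs : ∀ i, s i ≠ 0 := fun i e => by
    have := CfsgLib.BoundedPres.signFun_sq (F := F) σ i
    rw [show CfsgLib.BoundedPres.signFun σ i = (0 : F) from e, zero_mul] at this
    exact zero_ne_one this
  have hm : ∀ i, (CfsgLib.BoundedPres.monoSL σ : SLg N F).1 *ᵥ Pi.single i 1 = Pi.single (σ i) (s i) := fun i => by
    rw [CfsgLib.BoundedPres.coe_monoSL, ← mulVec_mulVec]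
    ext k
    rw [Matrix.permMatrix_mulVec, Function.comp_apply, mulVec_diagonal]
    by_cases hk : k = σ i
    · subst hk; simp [s]
    · have : σ.symm k ≠ i := fun e => hk (by rw [← e]; simp)
      simp [hk, this]
  set D : SLg N F := SpecialLinearGroup.diag2n E.npq (s p)⁻¹ (inv_ne_zero (hs p)) *
    SpecialLinearGroup.diag2n n0q (s p0)⁻¹ (inv_ne_zero (hs p0)) with hD
  set g := CfsgLib.BoundedPres.monoSL σ * D with hg
  have act : ∀ i, g.1 *ᵥ Pi.single i 1 = Pi.single (σ i)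
      ((if i = p0 then (s p0)⁻¹ else if i = q then s p0 else 1) *
        (if i = p then (s p)⁻¹ else if i = r then s p else 1) * s i) := fun i => by
    have sm : ∀ (k : Fin N) (c : F), (Pi.single k c : Fin N → F) = c • Pi.single k 1 := fun k c => single_eq_smul k c
    rw [hg, hD, coe_mulVec, coe_mulVec, diag2n_single, inv_inv, sm, mulVec_smul, diag2n_single, inv_inv, sm i,
      smul_smul, mulVec_smul, hm, ← Pi.single_smul', smul_eq_mul]
  have h0 := hσ 0
  have h1 := hσ 1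
  have h2 := hσ 2
  have h3 := hσ 3
  simp only [Matrix.cons_val_zero, Matrix.cons_val_one, Matrix.cons_val_two, Matrix.cons_val_three,
    Matrix.head_cons, Matrix.tail_cons] at h0 h1 h2 h3
  have ap : g.1 *ᵥ Pi.single p 1 = Pi.single a 1 := by
    rw [act, h0, if_neg E.n0p.symm, if_neg npq, if_pos rfl, one_mul, inv_mul_cancel₀ (hs p)]
  have ac : g.1 *ᵥ Pi.single p0 1 = Pi.single c 1 := by
    rw [act, h2, if_pos rfl, if_neg E.n0p, if_neg E.n0q, mul_one, inv_mul_cancel₀ (hs p0)]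
  have ar : g.1 *ᵥ Pi.single r 1 = Pi.single b (s p * s r) := by
    rw [act, h1, if_neg E.n0q.symm, if_neg nqr.symm, if_neg E.npq.symm, if_pos rfl, one_mul]
  have aq : g.1 *ᵥ Pi.single q 1 = Pi.single d (s p0 * s q) := by
    rw [act, h3, if_neg n0q.symm, if_pos rfl, if_neg npq.symm, if_neg nqr, mul_one]
  have eb : g.1 *ᵥ Pi.single r (t / (s p * s r)) = Pi.single b t := by
    rw [single_eq_smul, mulVec_smul, ar, ← Pi.single_smul', smul_eq_mul,
      div_mul_cancel₀ _ (mul_ne_zero (hs p) (hs r))]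
  have ed : g.1 *ᵥ Pi.single q (u / (s p0 * s q)) = Pi.single d u := by
    rw [single_eq_smul, mulVec_smul, aq, ← Pi.single_smul', smul_eq_mul,
      div_mul_cancel₀ _ (mul_ne_zero (hs p0) (hs q))]
  rw [Br.S, Br.S, ← ap, ← ac, ← eb, ← ed, E.col2_equiv, E.col2_equiv]
  exact (Commute.conj_iff (Φ g)).2 (h _ _)

namespace Ext

variable {Φ : SLg N F →* G} {x : G} {p0 p q r : Fin N} (X : Ext Φ x p0 p q r) [Finite F]
include X

/-- the relations of type D -/
theorem sys : SysD (ι := Fin N ⊕ Fin N) Sum.swap X.br.rootX :=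
  X.br.sys_of
    (fun _ _ _ _ h1 h2 h3 h4 h5 h6 t u => disjoint_of_base X.br X.n0q X.npq X.nqr X.base_S h1 h2 h3 h4 h5 h6 t u)
    (fun _ _ _ _ h1 h2 h3 h4 h5 h6 t u =>
      disjoint_of_base X.br.dual X.n0q X.npq X.nqr X.base_R h1 h2 h3 h4 h5 h6 t u)

end Ext

end CfsgLib.PlusPres
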