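import Cfsg.Agent.Lib.CurtisTits.DForm
import Cfsg.Agent.Lib.PlusPres.Setup
import Cfsg.Agent.Lib.SpinCover.Kernel
import Cfsg.Agent.Lib.SpinCover.PlusKernel

/-!
The extended group is no larger than the group of root elements of the plus-type form.
-/

set_option autoImplicit false
set_option linter.unusedSectionVars false

namespace CfsgLib.PlusPres

open Matrix CfsgLib.AutPSL CfsgLib.CurtisTitsChain CfsgLib.CurtisTitsD CfsgLib.ChevClassical
open CfsgLib.SpinCover
open scoped MatrixGroups commutatorElement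

theorem finite_commutator_of_center {G : Type*} [Group G] (hfin : Finite (G ⧸ Subgroup.center G)) :
    Finite (_root_.commutator G) := by
  haveI := hfin
  haveI : Finite (commutatorSet G) := by
    refine Set.Finite.to_subtype ((Set.finite_range fun z : (G ⧸ Subgroup.center G) × (G ⧸ Subgroup.center G) =>
      ⁅z.1.out, z.2.out⁆).subset ?_)
    rintro c ⟨a, b, rfl⟩
    refine ⟨(QuotientGroup.mk a, QuotientGroup.mk b), ?_⟩
    obtain ⟨z, hz⟩ := QuotientGroup.mk_out_eq_mul (Subgroup.center G) a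
    obtain ⟨w, hw⟩ := QuotientGroup.mk_out_eq_mul (Subgroup.center G) b
    show ⁅((QuotientGroup.mk a : G ⧸ Subgroup.center G)).out, ((QuotientGroup.mk b : G ⧸ Subgroup.center G)).out⁆ = ⁅a, b⁆
    rw [hz, hw]
    have hz' := Subgroup.mem_center_iff.1 z.2
    have hw' := Subgroup.mem_center_iff.1 w.2
    simp only [commutatorElement_def, _root_.mul_inv_rev]
    calc a * z * (b * w) * ((z : G)⁻¹ * a⁻¹) * ((w : G)⁻¹ * b⁻¹)
        = a * (z * (b * w)) * (z : G)⁻¹ * a⁻¹ * (w : G)⁻¹ * b⁻¹ := by group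
      _ = a * b * (w * a⁻¹) * (w : G)⁻¹ * b⁻¹ := by rw [← hz' (b * w)]; group
      _ = _ := by rw [← hw' a⁻¹]; group
  infer_instance

variable {F : Type*} [Field F] {N : ℕ} {G : Type*} [Group G]

namespace Ext

variable {Φ : SLg N F →* G} {x : G} {p0 p q r : Fin N} (X : Ext Φ x p0 p q r) [Finite F]
include X

theorem rootX_base (t : F) :
    X.br.rootX (.inl p) (.inr r) t = x * Φ (el p q t) * x⁻¹ ∧
      X.br.rootX (.inr r) (.inl p) t = x * Φ (el q p t) * x⁻¹ :=
  ⟨X.S_base t, X.R_base t⟩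

/-- a commutator expression of a root element -/
theorem rootX_comm {a b c : Fin N ⊕ Fin N} (hab : Lok Sum.swap a b) (hbc : Lok Sum.swap b c)
    (hac : Lok Sum.swap a c) (t : F) :
    X.br.rootX a c t = ⁅X.br.rootX a b t, X.br.rootX b c 1⁆ := by
  rw [commutatorElement_def, X.sys.step a b c hab hbc hac, mul_one]; group

theorem rho_rootX (ρ : G →* GL (Fin N ⊕ Fin N) F)
    (hΦ : ∀ a b, a ≠ b → ∀ t, ρ (Φ (el a b t)) = rootY (.inl a) (.inl b) t)
    (hS : ∀ t, ρ (x * Φ (el p q t) * x⁻¹) = rootY (.inl p) (.inr r) t)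
    (hR : ∀ t, ρ (x * Φ (el q p t) * x⁻¹) = rootY (.inr r) (.inl p) t) :
    ∀ a b, Lok Sum.swap a b → ∀ t, ρ (X.br.rootX a b t) = rootY a b t := by
  refine all_of_base (fun a b => ∀ t, ρ (X.br.rootX a b t) = rootY a b t) X.npr ?_ ?_
    (fun a b h t => hΦ a b h t) (fun t => by rw [(X.rootX_base t).1]; exact hS t)
    (fun t => by rw [(X.rootX_base t).2]; exact hR t)
  · intro a b h hP t
    have e1 := X.sys.symm a b h (-t)
    have e2 := (sys_Y (F := F) (m := N)).symm a b h (-t)
    rw [neg_neg] at e1 e2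
    rw [← e1, ← e2, hP]
  · intro a b c hab hbc hac h1 h2 t
    rw [X.rootX_comm hab hbc hac, map_commutatorElement, h1, h2, commutatorElement_def,
      (sys_Y (F := F) (m := N)).step a b c hab hbc hac, mul_one]
    group

theorem gen_top (hgen : Subgroup.closure (Set.range Φ ∪ {x}) = ⊤) :
    Subgroup.closure {g | ∃ a b t, Lok Sum.swap a b ∧ g = X.br.rootX a b t} = ⊤ := by
  set K := Subgroup.closure {g | ∃ a b t, Lok Sum.swap a b ∧ g = X.br.rootX a b t}
  have hΦ : ∀ A, Φ A ∈ K := map_le_of_el fun a b h t =>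
    Subgroup.subset_closure ⟨.inl a, .inl b, t, ⟨by simpa using h, by simp⟩, rfl⟩
  have h1 : ∀ t, x * Φ (el p q t) * x⁻¹ ∈ K := fun t =>
    Subgroup.subset_closure ⟨.inl p, .inr r, t, ⟨by simp, by simpa using X.npr⟩, (X.rootX_base t).1.symm⟩
  have h2 : ∀ t, x * Φ (el q p t) * x⁻¹ ∈ K := fun t =>
    Subgroup.subset_closure ⟨.inr r, .inl p, t, ⟨by simp, by simpa using X.npr.symm⟩, (X.rootX_base t).2.symm⟩
  have hx : x ∈ K := by
    have h3 : x * Φ (wq p q) * x⁻¹ ∈ K := by
      rw [wq, map_mul, map_mul, show x * (Φ (el p q 1) * Φ (el q p (-1)) * Φ (el p q 1)) * x⁻¹ =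
        x * Φ (el p q 1) * x⁻¹ * (x * Φ (el q p (-1)) * x⁻¹) * (x * Φ (el p q 1) * x⁻¹) by group]
      exact mul_mem (mul_mem (h1 _) (h2 _)) (h1 _)
    have := mul_mem (mul_mem (hΦ (wq p q)) h3) (inv_mem (hΦ (wq p q)))
    rwa [X.tau_conj, show Φ (wq p q) * ((Φ (wq p q))⁻¹ * x * Φ (wq p q)) * (Φ (wq p q))⁻¹ = x by group] at this
  rw [eq_top_iff, ← hgen, Subgroup.closure_le]
  rintro g (⟨A, rfl⟩ | rfl)
  exacts [hΦ A, hx]

/-- the representation is faithful -/
theorem injective [Fintype F] (hgen : Subgroup.closure (Set.range Φ ∪ {x}) = ⊤)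
    (ρ : G →* GL (Fin N ⊕ Fin N) F)
    (hΦ : ∀ a b, a ≠ b → ∀ t, ρ (Φ (el a b t)) = rootY (.inl a) (.inl b) t)
    (hS : ∀ t, ρ (x * Φ (el p q t) * x⁻¹) = rootY (.inl p) (.inr r) t)
    (hR : ∀ t, ρ (x * Φ (el q p t) * x⁻¹) = rootY (.inr r) (.inl p) t) :
    Function.Injective ρ := by
  classical
  have hρ := X.rho_rootX ρ hΦ hS hR
  have htop := X.gen_top hgen
  have hN := X.card
  let C : Nat_ (Fin N ⊕ Fin N) F G :=
    { bar := Sum.swap
      bar_bar := swap_swap'
      bar_ne := swap_ne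
      six := by simp; omega
      x := X.br.rootX
      sys := X.sys
      pi := (Units.coeHom _).comp ρ
      pi_x := fun a b h t v => by
        rw [MonoidHom.comp_apply, Units.coeHom_apply, hρ a b h t]
        exact rootY_mulVec h t v
      gen := htop }
  have hcen : ρ.ker ≤ Subgroup.center G := fun g hg => C.ker_central (by
    show ((ρ g : GL (Fin N ⊕ Fin N) F) : Matrix (Fin N ⊕ Fin N) (Fin N ⊕ Fin N) F) = 1
    rw [hg]; rfl)
  have exists_mid : ∀ a b : Fin N ⊕ Fin N, Lok Sum.swap a b → ∃ c, Lok Sum.swap a c ∧ Lok Sum.swap c b := by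
    intro a b _
    obtain ⟨e, -, e1, e2, e3, e4, -, -⟩ := plus_fourth (F := F) hN a b a
    exact ⟨e, ⟨Ne.symm e1, fun h => e2 (by rw [h]; exact (swap_swap' e).symm)⟩, e3, e4⟩
  have hperf : _root_.commutator G = ⊤ := by
    rw [eq_top_iff, ← htop, Subgroup.closure_le]
    rintro g ⟨a, b, t, h, rfl⟩
    obtain ⟨c, h1, h2⟩ := exists_mid a b h
    rw [X.rootX_comm h1 h2 h]
    exact Subgroup.commutator_mem_commutator (Subgroup.mem_top _) (Subgroup.mem_top _)
  haveI : Finite G := by
    haveI : Finite (GL (Fin N ⊕ Fin N) F) := Finite.of_injective _ Units.val_injective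
    haveI : Finite (G ⧸ ρ.ker) := Finite.of_equiv _ (QuotientGroup.quotientKerEquivRange ρ).symm.toEquiv
    have hfin : Finite (G ⧸ Subgroup.center G) := Finite.of_surjective
      (QuotientGroup.map ρ.ker (Subgroup.center G) (MonoidHom.id G) hcen)
      (fun y => by
        obtain ⟨g, rfl⟩ := QuotientGroup.mk_surjective y
        exact ⟨QuotientGroup.mk g, rfl⟩)
    have := finite_commutator_of_center hfin
    rw [hperf] at this
    exact Finite.of_equiv _ Subgroup.topEquiv.toEquiv
  set H := plusForm F N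
  have hmem : ∀ (a b : Fin N ⊕ Fin N) (h : H.LOK a b) (t : F), HypForm.opL h t ∈ ρ.range := fun a b h t =>
    ⟨X.br.rootX a b t, by rw [hρ a b (lok_iff.1 h) t, rootY, dif_pos (lok_iff.1 h)]⟩
  have hext : ∀ P : Finset (Fin N ⊕ Fin N), Ori H P → ∃ P', Ori H P' ∧ P ⊆ P' ∧ Sected H ρ P' := by
    intro P hP
    let f : Fin N → Fin N ⊕ Fin N := fun i => if Sum.inr i ∈ P then Sum.inr i else Sum.inl i
    have hf : Function.Injective f := by
      intro i j e
      simp only [f] at e
      split_ifs at e <;> simpa using e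
    have hlok : ∀ i j, i ≠ j → Lok Sum.swap (f i) (f j) := fun i j h => by
      simp only [f]; split_ifs <;> simp [Lok, h]
    obtain ⟨φ, hφ⟩ := exists_elHom (G := G) (by omega : 3 ≤ N) (fun a b t => X.br.rootX (f a) (f b) t)
      (fun a b h t u => X.sys.add _ _ (hlok a b h) t u)
      (fun a b c d h1 h2 h3 h4 t u => X.sys.comm0 _ _ _ _ (hlok a b h1) (hlok c d h2) (hf.ne h4) (hf.ne h3)
        (fun e => by simp only [f] at e; split_ifs at e <;> simp_all)
        (fun e => by simp only [f] at e; split_ifs at e <;> simp_all) t u)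
      (fun a b c h1 h2 h3 t u => X.sys.step _ _ _ (hlok a b h1) (hlok b c h2) (hlok a c h3) t u)
    refine ⟨Finset.univ.image f, ?_, ?_, ⟨?_, fun hP' => ?_⟩⟩
    · intro x hx hx'
      simp only [Finset.mem_image, Finset.mem_univ, true_and] at hx hx'
      obtain ⟨i, rfl⟩ := hx
      obtain ⟨j, hj⟩ := hx'
      simp only [f, H, plusForm] at hj
      split_ifs at hj with h1 h2 h2 <;> simp at hj <;> subst hj <;> contradiction
    · intro x hx
      simp only [Finset.mem_image, Finset.mem_univ, true_and]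
      rcases x with i | i
      · exact ⟨i, if_neg fun h => hP _ hx (by simpa [H, plusForm] using h)⟩
      · exact ⟨i, if_pos hx⟩
    · rw [Fintype.card_coe, Finset.card_image_of_injective _ hf, Finset.card_univ, Fintype.card_fin]; omega
    · let e : Fin N ≃ ↥(Finset.univ.image f) :=
        Equiv.ofBijective (fun i => ⟨f i, Finset.mem_image_of_mem _ (Finset.mem_univ i)⟩)
          ⟨fun i j h => hf (congrArg Subtype.val h), fun y => by
            obtain ⟨i, -, hi⟩ := Finset.mem_image.1 y.2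
            exact ⟨i, Subtype.ext hi⟩⟩
      have he : ∀ i, (e i : Fin N ⊕ Fin N) = f i := fun _ => rfl
      obtain ⟨R, hR⟩ : ∃ R : Matrix.SpecialLinearGroup ↥(Finset.univ.image f) F →* SLg N F,
          ∀ A, (R A).1 = Matrix.reindex e.symm e.symm A.1 :=
        ⟨{ toFun := fun A => ⟨Matrix.reindex e.symm e.symm A.1, by rw [Matrix.det_reindex_self]; exact A.2⟩
           map_one' := Subtype.ext (by simp)
           map_mul' := fun A B => Subtype.ext (by
             simp only [Matrix.SpecialLinearGroup.coe_mul, Matrix.reindex_apply]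
             exact (Matrix.submatrix_mul_equiv _ _ _ _ _).symm) }, fun A => rfl⟩
      refine ⟨φ.comp R, fun A => ?_⟩
      refine CfsgLib.Linear.SL_transvection_induction (fun A => ρ ((φ.comp R) A) = blk hP' A)
        (by simp) ?_ (fun A B hA hB => by rw [map_mul, map_mul, map_mul, hA, hB]) A
      intro i j hij t
      obtain ⟨i, rfl⟩ := e.surjective i
      obtain ⟨j, rfl⟩ := e.surjective j
      have hne : i ≠ j := fun h => hij (by rw [h])
      have eR : R (Matrix.SpecialLinearGroup.transvection hij t) = el i j t := by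
        apply Subtype.ext
        rw [hR, el_coe hne, Matrix.SpecialLinearGroup.transvection_coe]
        ext k l
        simp [Matrix.one_apply, Matrix.single_apply, e.injective.eq_iff]
      rw [MonoidHom.comp_apply, eR, hφ i j hne t, hρ _ _ (hlok i j hne) t, rootY, dif_pos (hlok i j hne),
        ← CfsgLib.SLCover.xt_eq hij, blk_xt hP' hij]
      rfl
  have C' : Cover H ρ := PreCover.toCover
    { central := hcen
      mem := hmem
      ext := hext
      third := fun a b => by
        obtain ⟨e, he, h1, h2, h3, h4, -, -⟩ := plus_fourth (F := F) hN a b a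
        exact ⟨e, he, h1, h2, h3, h4⟩ }
    (plus_fourth hN)
  have hlift : ∀ a b, H.LOK a b → ∀ t, lift H ρ a b t = X.br.rootX a b t := by
    intro a b h t
    obtain ⟨c, h1, h2⟩ := C'.exists_mid h
    rw [← mul_one t, C'.lift_eq h h1 h2, mul_one,
      C'.cl_eq (a := X.br.rootX a c t) (b := X.br.rootX c b 1)
        (by rw [hρ a c (lok_iff.1 h1), rootY, dif_pos (lok_iff.1 h1)])
        (by rw [hρ c b (lok_iff.1 h2), rootY, dif_pos (lok_iff.1 h2)]),
      ← X.rootX_comm (lok_iff.1 h1) (lok_iff.1 h2) (lok_iff.1 h)]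
  have hrange : ρ.range ≤ H.elemGroup := by
    rw [MonoidHom.range_eq_map, ← htop, MonoidHom.map_closure, Subgroup.closure_le]
    rintro _ ⟨g, ⟨a, b, t, h, rfl⟩, rfl⟩
    rw [hρ a b h t]
    exact rootY_mem h t
  have hpr : H.LOK (Sum.inl p) (Sum.inl r) := lok_inl (F := F) X.npr
  have hpr' : H.LOK (Sum.inl p) (Sum.inr r) := lok_barRight hpr
  have hpr'' : H.LOK (Sum.inr r) (Sum.inl p) := lok_comm H hpr'
  have k1 : hh H ρ (.inl p) (.inl r) (-1) = Φ (hq p r) := by
    simp only [hh, wl, hlift _ _ hpr, hlift _ _ (lok_comm H hpr)]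
    simp only [inv_neg, inv_one, neg_neg, hq, map_mul]
    rfl
  have k2 : hh H ρ (.inl p) (H.bar (.inl r)) (-1) = x * Φ (hq p q) * x⁻¹ := by
    show hh H ρ (.inl p) (.inr r) (-1) = _
    simp only [hh, wl, hlift _ _ hpr', hlift _ _ hpr'']
    simp only [inv_neg, inv_one, neg_neg, (X.rootX_base _).1, (X.rootX_base _).2, hq, map_mul]
    group
  have hz : zEl H ρ (.inl p) (.inl r) = 1 := by
    rw [zEl, k2, X.kill, ← k1, C'.hh_neg_sq hpr]
  rw [injective_iff_map_eq_one]
  intro g hg
  rcases C'.kernel_le hperf plus_bar_ne hrange hpr hg with h | ⟨h, -⟩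
  · exact h
  · rw [h, hz]

end Ext

end CfsgLib.PlusPres
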