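import Cfsg.Agent.Lib.CurtisTits.DForm
import Cfsg.Agent.Lib.PlusPres.Setup

/-!
The conditions on the additional element hold in the group of root elements of the plus-type form.
-/

set_option autoImplicit false
set_option linter.unusedSectionVars false

namespace CfsgLib.PlusPres

open Matrix CfsgLib.AutPSL CfsgLib.CurtisTitsChain CfsgLib.CurtisTitsD CfsgLib.ChevClassical
open scoped MatrixGroups

variable {ι : Type*} [Fintype ι] [DecidableEq ι] {F : Type*} [Field F] {X : Type*} [Group X] (C : Nat_ ι F X)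

theorem pi_x_fix {a b i : ι} (h : Lok C.bar a b) (h1 : i ≠ b) (h2 : i ≠ C.bar a) (t c : F) :
    C.pi (C.x a b t) *ᵥ Pi.single i c = Pi.single i c := by
  rw [C.pi_x a b h, Pi.single_eq_of_ne (Ne.symm h1), Pi.single_eq_of_ne (Ne.symm h2)]
  simp

theorem pi_w_off {a b i : ι} (h : Lok C.bar a b) (hi : C.Off a b i) (t c : F) :
    C.pi (C.w a b t) *ᵥ Pi.single i c = Pi.single i c := by
  rw [Nat_.w, C.pi_mul, C.pi_mul, pi_x_fix C h hi.2.2.1 hi.2.1, pi_x_fix C (C.lok_swap h) hi.1 hi.2.2.2,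
    pi_x_fix C h hi.2.2.1 hi.2.1]

theorem pi_w_bq {a b : ι} (h : Lok C.bar a b) {t : F} (ht : t ≠ 0) (v : F) :
    C.pi (C.w a b t) *ᵥ Pi.single (C.bar b) v = Pi.single (C.bar a) (v / t) := by
  rw [C.w_alt h, C.pi_w_p (C.lok_symm h) (neg_ne_zero.2 ht)]
  congr 1; field_simp

theorem pi_single_ext (hinj : Function.Injective C.pi) {g g' : X}
    (e : ∀ i, C.pi g *ᵥ Pi.single i 1 = C.pi g' *ᵥ Pi.single i 1) : g = g' := by
  refine hinj ?_
  ext a b
  have := congrFun (e b) a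
  rwa [mulVec_single_one, mulVec_single_one] at this

theorem off_or {a b : ι} (i : ι) : i = a ∨ i = C.bar a ∨ i = b ∨ i = C.bar b ∨ C.Off a b i := by
  by_cases h1 : i = a
  · exact Or.inl h1
  by_cases h2 : i = C.bar a
  · exact Or.inr (Or.inl h2)
  by_cases h3 : i = b
  · exact Or.inr (Or.inr (Or.inl h3))
  by_cases h4 : i = C.bar b
  · exact Or.inr (Or.inr (Or.inr (Or.inl h4)))
  exact Or.inr (Or.inr (Or.inr (Or.inr ⟨h1, h2, h3, h4⟩)))

theorem w_flip (hinj : Function.Injective C.pi) {a b : ι} (h : Lok C.bar a b) {t : F} (ht : t ≠ 0) :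
    C.w b a (-t⁻¹) = C.w a b t := by
  have h' := C.lok_swap h
  have ht' : -t⁻¹ ≠ 0 := neg_ne_zero.2 (inv_ne_zero ht)
  refine pi_single_ext C hinj fun i => ?_
  rcases off_or C (a := a) (b := b) i with rfl | rfl | rfl | rfl | hi
  · rw [C.pi_w_p h ht, C.pi_w_q h' ht']; congr 1; field_simp
  · rw [C.pi_w_bp h ht, pi_w_bq C h' ht']; congr 1; field_simp
  · rw [C.pi_w_q h ht, C.pi_w_p h' ht']; congr 1; field_simp
  · rw [pi_w_bq C h ht, C.pi_w_bp h' ht']; congr 1; field_simp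
  · rw [pi_w_off C h hi, pi_w_off C h' ⟨hi.2.2.1, hi.2.2.2, hi.1, hi.2.1⟩]

/-- the square of an exchange -/
theorem pi_w_sq {a b : ι} (h : Lok C.bar a b) (i : ι) :
    C.pi (C.w a b (-1) * C.w a b (-1)) *ᵥ Pi.single i 1 =
      Pi.single i (if i = a ∨ i = C.bar a ∨ i = b ∨ i = C.bar b then -1 else 1) := by
  have n1 : (-1 : F) ≠ 0 := neg_ne_zero.2 one_ne_zero
  rcases off_or C (a := a) (b := b) i with rfl | rfl | rfl | rfl | hi
  · rw [C.pi_mul, C.pi_w_p h n1, C.pi_w_q h n1, if_pos (Or.inl rfl)]; congr 1; field_simp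
  · rw [C.pi_mul, C.pi_w_bp h n1, pi_w_bq C h n1, if_pos (Or.inr (Or.inl rfl))]; congr 1; field_simp
  · rw [C.pi_mul, C.pi_w_q h n1, C.pi_w_p h n1, if_pos (Or.inr (Or.inr (Or.inl rfl)))]; congr 1; field_simp
  · rw [C.pi_mul, pi_w_bq C h n1, C.pi_w_bp h n1, if_pos (Or.inr (Or.inr (Or.inr rfl)))]; congr 1; field_simp
  · rw [C.pi_mul, pi_w_off C h hi, pi_w_off C h hi, if_neg]
    simp only [not_or]
    exact hi

section Plus

variable {N : ℕ}

theorem exists_model [Fintype F] (hN : 4 ≤ N) :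
    ∃ (Φ0 : SLg N F →* ↥(plusForm F N).elemGroup), ∀ p0 p q r : Fin N, p0 ≠ p → p0 ≠ q → p0 ≠ r → p ≠ q →
      p ≠ r → q ≠ r → ∃ x0 : ↥(plusForm F N).elemGroup, Ext Φ0 x0 p0 p q r ∧
        Subgroup.closure (Set.range Φ0 ∪ {x0}) = ⊤ ∧
        (∀ a b, a ≠ b → ∀ t, (Φ0 (el a b t) : GL (Fin N ⊕ Fin N) F) = rootY (.inl a) (.inl b) t) ∧
        (∀ t, ((x0 * Φ0 (el p q t) * x0⁻¹ : ↥(plusForm F N).elemGroup) : GL (Fin N ⊕ Fin N) F) =
          rootY (.inl p) (.inr r) t) ∧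
        ∀ t, ((x0 * Φ0 (el q p t) * x0⁻¹ : ↥(plusForm F N).elemGroup) : GL (Fin N ⊕ Fin N) F) =
          rootY (.inr r) (.inl p) t := by
  classical
  let C := elemNat (F := F) (m := N) (by omega)
  have hbar : C.bar = Sum.swap := rfl
  have hinj : Function.Injective C.pi := fun a b e => Subtype.ext (Units.val_injective e)
  have hval : ∀ {a b}, Lok C.bar a b → ∀ t,
      ((C.x a b t : ↥(plusForm F N).elemGroup) : GL (Fin N ⊕ Fin N) F) = rootY a b t := fun {a b} h t => by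
    simp only [C, elemNat, dif_pos (show Lok Sum.swap a b from h)]
  have L : ∀ {a b : Fin N}, a ≠ b → Lok C.bar (Sum.inl a) (Sum.inl b) ∧ Lok C.bar (Sum.inl a) (Sum.inr b) ∧
      Lok C.bar (Sum.inr a) (Sum.inl b) ∧ Lok C.bar (Sum.inr a) (Sum.inr b) := fun h => by
    simp [Lok, hbar, h]
  obtain ⟨Φ0, hΦ0⟩ := exists_elHom (G := ↥(plusForm F N).elemGroup) (by omega : 3 ≤ N)
    (fun a b t => C.x (.inl a) (.inl b) t)
    (fun a b h t u => C.sys.add _ _ (L h).1 t u)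
    (fun a b c d h1 h2 h3 h4 t u => C.sys.comm0 _ _ _ _ (L h1).1 (L h2).1 (by simp [h4]) (by simp [h3])
      (by simp [hbar]) (by simp [hbar]) t u)
    (fun a b c h1 h2 h3 t u => C.sys.step _ _ _ (L h1).1 (L h2).1 (L h3).1 t u)
  refine ⟨Φ0, fun p0 p q r n0p n0q n0r npq npr nqr => ?_⟩
  have hΦw : ∀ a b, a ≠ b → Φ0 (wq a b) = C.w (.inl a) (.inl b) 1 := fun a b h => by
    rw [wq, map_mul, map_mul, hΦ0 a b h, hΦ0 b a h.symm, Nat_.w, inv_one]
  have hΦh : ∀ a b, a ≠ b → Φ0 (hq a b) = C.w (.inl a) (.inl b) (-1) * C.w (.inl a) (.inl b) (-1) := fun a b h => by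
    simp only [hq, map_mul, hΦ0 a b h, hΦ0 b a h.symm, Nat_.w, inv_neg, inv_one, neg_neg]
  set x0 : ↥(plusForm F N).elemGroup := C.w (.inr r) (.inl q) 1 with hx0
  have hrq := (L nqr.symm).2.2.1
  have alt : x0 = C.w (.inr q) (.inl r) (-1) := by
    rw [hx0, C.w_alt hrq]
    rfl
  have W1 : ∀ t, x0 * C.x (.inl p) (.inl q) t * x0⁻¹ = C.x (.inl p) (.inr r) t := fun t => by
    have h2 := (L nqr).2.2.1
    have hc : C.Off (Sum.inr q) (Sum.inl r) (Sum.inr p) := by simp [Nat_.Off, hbar, npq, npr]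
    have e := C.w_conj_pair h2 hc (neg_ne_zero.2 (one_ne_zero (α := F))) (-t) 0
    rw [C.x_zero (C.lok_off_left hc).2, mul_one, mul_zero, C.x_zero (C.lok_off_left hc).1, one_mul, ← alt] at e
    rw [C.sys.symm _ _ (L npq).1 t, show C.bar (Sum.inl q : Fin N ⊕ Fin N) = Sum.inr q from rfl,
      show C.bar (Sum.inl p : Fin N ⊕ Fin N) = Sum.inr p from rfl, e, C.sys.symm _ _ (L npr).2.1 t]
    show C.x (Sum.inl r) (Sum.inr p) _ = C.x (Sum.inl r) (Sum.inr p) _
    congr 1; field_simp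
  have W2 : ∀ t, x0 * C.x (.inl q) (.inl p) t * x0⁻¹ = C.x (.inr r) (.inl p) t := fun t => by
    have hc : C.Off (Sum.inr r) (Sum.inl q) (Sum.inl p) := by simp [Nat_.Off, hbar, npq, npr]
    have e := C.w_conj_pair hrq hc (one_ne_zero (α := F)) 0 t
    rw [C.x_zero (C.lok_off_left hc).1, one_mul, one_mul, zero_div, neg_zero, C.x_zero (C.lok_off_left hc).2,
      mul_one] at e
    exact e
  have hcx : ∀ a b, a ≠ b → InC q r a b → ∀ t, Commute x0 (C.x (.inl a) (.inl b) t) := by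
    intro a b hab hC t
    rcases hC with ⟨h1, h2, h3, h4⟩ | ⟨rfl, rfl⟩ | ⟨rfl, rfl⟩
    · have k1 : C.Off (Sum.inr r) (Sum.inl q) (Sum.inl a) := by simp [Nat_.Off, hbar, h1, h2]
      have k2 : C.Off (Sum.inr r) (Sum.inl q) (Sum.inl b) := by simp [Nat_.Off, hbar, h3, h4]
      exact ((C.x_out hrq (L hab).1 k1 k2 _ t).mul_left
        (C.x_out (C.lok_swap hrq) (L hab).1 ⟨k1.2.2.1, k1.2.2.2, k1.1, k1.2.1⟩
          ⟨k2.2.2.1, k2.2.2.2, k2.1, k2.2.1⟩ _ t)).mul_left (C.x_out hrq (L hab).1 k1 k2 _ t)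
    · -- the root `q - r`
      have e : C.x (.inl a) (.inl b) t = C.x (.inr b) (.inr a) (-t) := C.sys.symm _ _ (L nqr).1 t
      have c1 : ∀ u, Commute (C.x (.inr b) (.inl a) u) (C.x (.inl a) (.inl b) t) := fun u => by
        rw [e]
        exact C.sys.comm1 _ _ (L nqr.symm).2.2.1 u (-t)
      have c2 : ∀ u, Commute (C.x (.inl a) (.inr b) u) (C.x (.inl a) (.inl b) t) := fun u =>
        C.sys.comm1 _ _ (L nqr).2.1 u t
      exact ((c1 _).mul_left (c2 _)).mul_left (c1 _)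
    · -- the root `r - q`
      have c1 : ∀ u, Commute (C.x (.inr a) (.inl b) u) (C.x (.inl a) (.inl b) t) := fun u => by
        rw [C.sys.symm _ _ (L hab).2.2.1 u, C.sys.symm _ _ (L hab).1 t]
        exact C.sys.comm1 (.inr b) (.inl a) (L nqr).2.2.1 _ _
      have c2 : ∀ u, Commute (C.x (.inl b) (.inr a) u) (C.x (.inl a) (.inl b) t) := fun u => by
        rw [C.sys.symm _ _ (L hab.symm).2.1 u]
        exact C.sys.comm1 (.inl a) (.inr b) (L hab).2.1 _ t
      exact ((c1 _).mul_left (c2 _)).mul_left (c1 _)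
  have hbraid : x0 * C.w (.inl p) (.inl q) 1 * x0 =
      C.w (.inl p) (.inl q) 1 * x0 * C.w (.inl p) (.inl q) 1 := by
    set τ := C.w (.inl p) (.inl q) 1 with hτ
    have e1 : x0 * τ * x0⁻¹ = C.w (.inl p) (.inr r) 1 := by
      rw [hτ, Nat_.w, Nat_.w]
      simp only [inv_one]
      rw [show ∀ A B : ↥(plusForm F N).elemGroup, x0 * (A * B * A) * x0⁻¹ =
        x0 * A * x0⁻¹ * (x0 * B * x0⁻¹) * (x0 * A * x0⁻¹) from fun A B => by group, W1, W2]
    have hpq := (L npq).1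
    have hi : τ⁻¹ = C.w (.inl p) (.inl q) (-1) := C.w_inv hpq 1
    have p1 : ∀ v, τ⁻¹ * C.x (.inl q) (.inr r) v * τ = C.x (.inl p) (.inr r) (-v) := fun v => by
      have hc : C.Off (Sum.inl p) (Sum.inl q) (Sum.inr r) := by simp [Nat_.Off, hbar, npr.symm, nqr.symm]
      have e := C.w_conj_pair hpq hc (neg_ne_zero.2 (one_ne_zero (α := F))) 0 v
      rw [C.x_zero (C.lok_off_left hc).1, one_mul, zero_div, neg_zero, C.x_zero (C.lok_off_left hc).2, mul_one,
        ← hi, inv_inv, neg_one_mul] at e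
      exact e
    have p2 : ∀ u, τ⁻¹ * C.x (.inr r) (.inl q) u * τ = C.x (.inr r) (.inl p) (-u) := fun u => by
      have hc : C.Off (Sum.inr q) (Sum.inr p) (Sum.inl r) := by simp [Nat_.Off, hbar, npr.symm, nqr.symm]
      have e := C.w_conj_pair (L npq.symm).2.2.2 hc (one_ne_zero (α := F)) (-u) 0
      rw [C.x_zero (C.lok_off_left hc).2, mul_one, mul_zero, C.x_zero (C.lok_off_left hc).1, one_mul,
        show C.w (Sum.inr q) (Sum.inr p) (1 : F) = τ⁻¹ by rw [hi, C.w_alt hpq, neg_neg]; rfl, inv_inv] at e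
      rw [C.sys.symm _ _ hrq u]
      show τ⁻¹ * C.x (Sum.inr q) (Sum.inl r) (-u) * τ = _
      rw [e, C.sys.symm _ _ (L npr.symm).2.2.1 (-u)]
      show C.x (Sum.inr p) (Sum.inl r) _ = C.x (Sum.inr p) (Sum.inl r) _
      congr 1; field_simp
    have e2 : τ⁻¹ * x0 * τ = C.w (.inr r) (.inl p) (-(1 : F)⁻¹) := by
      rw [hx0, Nat_.w, Nat_.w]
      simp only [inv_one, inv_neg, neg_neg]
      rw [show ∀ A B : ↥(plusForm F N).elemGroup, τ⁻¹ * (A * B * A) * τ =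
        τ⁻¹ * A * τ * (τ⁻¹ * B * τ) * (τ⁻¹ * A * τ) from fun A B => by group, p1, p2, neg_neg]
    rw [w_flip C hinj (L npr).2.1 one_ne_zero, ← e1] at e2
    calc x0 * τ * x0 = τ * (τ⁻¹ * x0 * τ) * x0 := by group
      _ = _ := by rw [e2]; group
  have hbraid' : x0 * C.w (.inl p) (.inl q) 1 * x0 =
      C.w (.inl p) (.inl q) 1 * x0 * C.w (.inl p) (.inl q) 1 := hbraid
  have hcz : ∀ a b, a ≠ b → InC p r a b → ∀ t,
      Commute (C.x (.inl p) (.inr r) 1) (C.x (.inl a) (.inl b) t) := by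
    intro a b hab hC t
    rcases hC with ⟨h1, h2, h3, h4⟩ | ⟨rfl, rfl⟩ | ⟨rfl, rfl⟩
    · exact C.sys.comm0 _ _ _ _ (L npr).2.1 (L hab).1 (by simp) (by simp [Ne.symm h3]) (by simp [hbar])
        (by simp [hbar, h4]) 1 t
    · exact C.sys.comm1 _ _ (L npr).2.1 1 t
    · rw [C.sys.symm _ _ (L npr).2.1]
      exact C.sys.comm1 (.inl a) (.inr b) (L hab).2.1 _ t
  refine ⟨x0, ⟨hN, n0p, n0q, n0r, npq, npr, nqr, fun a b h hC t => by rw [hΦ0 a b h]; exact hcx a b h hC t,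
    by rw [hΦw p q npq]; exact hbraid', fun a b h hC t => by
      rw [hΦ0 a b h, hΦ0 p q npq, W1]; exact hcz a b h hC t, ?_⟩, ?_, ?_, ?_, ?_⟩
  · rw [hΦh p q npq, hΦh p r npr]
    have e1 : x0 * C.w (.inl p) (.inl q) (-1) * x0⁻¹ = C.w (.inl p) (.inr r) (-1) := by
      rw [Nat_.w, Nat_.w, show ∀ A B : ↥(plusForm F N).elemGroup, x0 * (A * B * A) * x0⁻¹ =
        x0 * A * x0⁻¹ * (x0 * B * x0⁻¹) * (x0 * A * x0⁻¹) from fun A B => by group, W1, W2]
    rw [show ∀ A : ↥(plusForm F N).elemGroup, x0 * (A * A) * x0⁻¹ = x0 * A * x0⁻¹ * (x0 * A * x0⁻¹) from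
      fun A => by group, e1]
    refine pi_single_ext C hinj fun i => ?_
    rw [pi_w_sq C (L npr).2.1, pi_w_sq C (L npr).1]
    congr 1
    refine if_congr ?_ rfl rfl
    simp only [hbar, Sum.swap_inl, Sum.swap_inr]
    tauto
  · set K := Subgroup.closure (Set.range Φ0 ∪ {x0}) with hK
    have hΦK : ∀ A, Φ0 A ∈ K := fun A => Subgroup.subset_closure (Or.inl ⟨A, rfl⟩)
    have hxK : x0 ∈ K := Subgroup.subset_closure (Or.inr rfl)
    have hll : ∀ a b : Fin N, a ≠ b → ∀ t, C.x (.inl a) (.inl b) t ∈ K := fun a b h t => hΦ0 a b h t ▸ hΦK _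
    have hall := all_of_base (n := N) (fun a b => ∀ t, C.x a b t ∈ K) npr
      (fun a b h hP t => by
        have e := C.sys.symm a b h (-t)
        rw [neg_neg] at e
        exact e ▸ hP (-t))
      (fun a b c hab hbc hac h1 h2 t => by
        have e : C.x a c t = C.x a b t * C.x b c 1 * (C.x a b t)⁻¹ * (C.x b c 1)⁻¹ := by
          rw [C.sys.step a b c hab hbc hac, mul_one]; group
        rw [e]
        exact mul_mem (mul_mem (mul_mem (h1 t) (h2 1)) (inv_mem (h1 t))) (inv_mem (h2 1)))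
      hll
      (fun t => W1 t ▸ mul_mem (mul_mem hxK (hll p q npq t)) (inv_mem hxK))
      (fun t => W2 t ▸ mul_mem (mul_mem hxK (hll q p npq.symm t)) (inv_mem hxK))
    rw [eq_top_iff, ← C.gen, Subgroup.closure_le]
    rintro g ⟨a, b, t, h, rfl⟩
    exact hall a b h t
  · intro a b h t; rw [hΦ0 a b h, hval (L h).1]
  · intro t; rw [hΦ0 p q npq, W1, hval (L npr).2.1]
  · intro t; rw [hΦ0 q p npq.symm, W2, hval (L npr.symm).2.2.1]

end Plus

end CfsgLib.PlusPres
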