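import Cfsg.Agent.Lib.PlusPres.Gen
import Cfsg.Agent.Lib.PlusPres.Setup

/-!
Two elements generating the elementary matrices that fix two coordinates or lie on them.
-/

set_option autoImplicit false
set_option linter.unusedSectionVars false

namespace CfsgLib.PlusPres

open Matrix CfsgLib.AutPSL CfsgLib.CurtisTitsChain
open scoped MatrixGroups

variable {F : Type*} [Field F] {N : ℕ}

/-- the elementary matrices of the pairs in `InC` -/
def inSet (q r : Fin N) : Set (SLg N F) := {g | ∃ a b, a ≠ b ∧ InC q r a b ∧ ∃ t, g = el a b t}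

theorem exists_pair_InC [Fintype F] (hN : 4 ≤ N) {q r : Fin N} (h : q ≠ r) :
    ∃ g1 g2 : SLg N F, Subgroup.closure ({g1, g2} : Set (SLg N F)) = Subgroup.closure (inSet q r) := by
  classical
  obtain ⟨k, hk⟩ : ∃ k, N = k + 2 := ⟨N - 2, by omega⟩
  have hcard : Fintype.card {i : Fin N // i ≠ q ∧ i ≠ r} = k := by
    rw [Fintype.card_subtype, show (Finset.univ.filter fun i : Fin N => i ≠ q ∧ i ≠ r) = Finset.univ \ {q, r} by
      ext i; simp [not_or], Finset.card_sdiff_of_subset (Finset.subset_univ _), Finset.card_univ,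
      Fintype.card_fin, Finset.card_pair h]
    omega
  let c := Fintype.equivFinOfCardEq hcard
  let e : Fin N ≃ Fin k ⊕ Fin 2 :=
    { toFun := fun i => if hq : i = q then .inr 0 else if hr : i = r then .inr 1 else .inl (c ⟨i, hq, hr⟩)
      invFun := Sum.elim (fun j => (c.symm j).1) ![q, r]
      left_inv := fun i => by
        by_cases hq : i = q
        · simp [hq]
        by_cases hr : i = r
        · simp [hr, h.symm]
        simp [hq, hr]
      right_inv := fun j => by
        rcases j with j | j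
        · have := (c.symm j).2
          simp [this.1, this.2]
        · fin_cases j <;> simp [h.symm] }
  have eq1 : e q = .inr 0 := by simp [e]
  have er1 : e r = .inr 1 := by simp [e, h.symm]
  have eoff : ∀ j, e.symm (.inl j) ≠ q ∧ e.symm (.inl j) ≠ r := fun j => (c.symm j).2
  obtain ⟨J, hJ⟩ : ∃ J : SL(k, F) × SL(2, F) →* SLg N F,
      ∀ z, (J z).1 = Matrix.reindex e.symm e.symm (Matrix.fromBlocks z.1.1 0 0 z.2.1) :=
    ⟨{ toFun := fun z => ⟨Matrix.reindex e.symm e.symm (Matrix.fromBlocks z.1.1 0 0 z.2.1), by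
          rw [Matrix.det_reindex_self, Matrix.det_fromBlocks_zero₂₁, z.1.2, z.2.2, one_mul]⟩
       map_one' := Subtype.ext (by simp [Matrix.fromBlocks_one])
       map_mul' := fun z w => Subtype.ext (by
         show Matrix.reindex e.symm e.symm (Matrix.fromBlocks (z.1.1 * w.1.1) 0 0 (z.2.1 * w.2.1)) =
           Matrix.reindex e.symm e.symm (Matrix.fromBlocks z.1.1 0 0 z.2.1) *
             Matrix.reindex e.symm e.symm (Matrix.fromBlocks w.1.1 0 0 w.2.1)
         simp [Matrix.submatrix_mul_equiv, Matrix.fromBlocks_multiply]) }, fun z => rfl⟩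
  obtain ⟨g, g', hg⟩ : ∃ g g' : SL(k, F) × SL(2, F), Subgroup.closure ({g, g'} : Set _) = ⊤ := by
    rcases Nat.lt_or_ge k 3 with hk3 | hk3
    · obtain rfl : k = 2 := by omega
      exact SL2_prod_two_generated
    · obtain ⟨m, rfl⟩ : ∃ m, k = 3 + m := ⟨k - 3, by omega⟩
      exact SL_prod_two_generated m
  have left : ∀ i j (hij : i ≠ j) (t : F), J (el i j t, 1) = el (e.symm (.inl i)) (e.symm (.inl j)) t := by
    intro i j hij t
    apply Subtype.ext
    rw [hJ, el_coe hij, el_coe (e.symm.injective.ne (by simpa using hij)), Matrix.SpecialLinearGroup.coe_one]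
    ext a b
    simp only [Matrix.reindex_apply, Matrix.submatrix_apply, Equiv.symm_symm, Matrix.add_apply, Matrix.one_apply,
      Matrix.single_apply]
    obtain ⟨a', rfl⟩ := e.symm.surjective a
    obtain ⟨b', rfl⟩ := e.symm.surjective b
    rcases a' with a' | a' <;> rcases b' with b' | b' <;>
      simp [Matrix.one_apply, Matrix.single_apply, e.symm.injective.eq_iff]
  have right : ∀ i j (hij : i ≠ j) (t : F), J (1, el i j t) = el (e.symm (.inr i)) (e.symm (.inr j)) t := by
    intro i j hij t
    apply Subtype.ext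
    rw [hJ, el_coe hij, el_coe (e.symm.injective.ne (by simpa using hij)), Matrix.SpecialLinearGroup.coe_one]
    ext a b
    simp only [Matrix.reindex_apply, Matrix.submatrix_apply, Equiv.symm_symm, Matrix.add_apply, Matrix.one_apply,
      Matrix.single_apply]
    obtain ⟨a', rfl⟩ := e.symm.surjective a
    obtain ⟨b', rfl⟩ := e.symm.surjective b
    rcases a' with a' | a' <;> rcases b' with b' | b' <;>
      simp [Matrix.one_apply, Matrix.single_apply, e.symm.injective.eq_iff]
  have hr : J.range = Subgroup.closure (inSet q r) := by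
    refine le_antisymm ?_ ((Subgroup.closure_le _).2 ?_)
    · rintro _ ⟨⟨A, B⟩, rfl⟩
      rw [show (A, B) = (A, (1 : SL(2, F))) * ((1 : SL(k, F)), B) by simp, map_mul]
      refine mul_mem ?_ ?_
      · refine map_le_of_el (φ := J.comp (MonoidHom.inl _ _)) (fun i j hij t => ?_) A
        rw [MonoidHom.comp_apply, MonoidHom.inl_apply, left i j hij t]
        refine Subgroup.subset_closure ⟨_, _, e.symm.injective.ne (by simpa using hij),
          Or.inl ⟨(eoff i).1, (eoff i).2, (eoff j).1, (eoff j).2⟩, t, rfl⟩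
      · refine map_le_of_el (φ := J.comp (MonoidHom.inr _ _)) (fun i j hij t => ?_) B
        rw [MonoidHom.comp_apply, MonoidHom.inr_apply, right i j hij t]
        refine Subgroup.subset_closure ⟨_, _, e.symm.injective.ne (by simpa using hij), ?_, t, rfl⟩
        fin_cases i <;> fin_cases j <;> first
          | exact absurd rfl hij
          | exact Or.inr (Or.inl ⟨rfl, rfl⟩)
          | exact Or.inr (Or.inr ⟨rfl, rfl⟩)
    · rintro _ ⟨a, b, hab, hC, t, rfl⟩
      rcases hC with ⟨h1, h2, h3, h4⟩ | ⟨rfl, rfl⟩ | ⟨rfl, rfl⟩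
      · obtain ⟨i, hi⟩ : ∃ i, e a = .inl i := ⟨c ⟨a, h1, h2⟩, by simp [e, h1, h2]⟩
        obtain ⟨j, hj⟩ : ∃ j, e b = .inl j := ⟨c ⟨b, h3, h4⟩, by simp [e, h3, h4]⟩
        refine ⟨(el i j t, 1), ?_⟩
        rw [left i j (fun he => hab (e.injective (by rw [hi, hj, he]))), ← hi, ← hj, e.symm_apply_apply,
          e.symm_apply_apply]
      · refine ⟨(1, el 0 1 t), ?_⟩
        rw [right 0 1 (by decide), ← eq1, ← er1, e.symm_apply_apply, e.symm_apply_apply]
      · refine ⟨(1, el 1 0 t), ?_⟩
        rw [right 1 0 (by decide), ← eq1, ← er1, e.symm_apply_apply, e.symm_apply_apply]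
  refine ⟨J g, J g', ?_⟩
  rw [← hr, MonoidHom.range_eq_map, ← hg, MonoidHom.map_closure, Set.image_insert_eq, Set.image_singleton]

end CfsgLib.PlusPres
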