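import Cfsg.Agent.Lib.BoundedPres.On
import Cfsg.Agent.Lib.PlusPres.Kernel
import Cfsg.Agent.Lib.PlusPres.Model
import Cfsg.Agent.Lib.PlusPres.Pair
import Cfsg.Agent.Lib.SpinCover.Plus

/-!
One generator and six relations on top of a presentation of `SL_n` present the group `Ω⁺_{2n}`;
one more relation presents its central quotient.
-/

set_option autoImplicit false
set_option linter.unusedSectionVars false

namespace CfsgLib.PlusPres

open Matrix CfsgLib.AutPSL CfsgLib.CurtisTitsChain CfsgLib.CurtisTitsD CfsgLib.ChevClassical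
open CfsgLib.BoundedPres
open scoped MatrixGroups

theorem presOn_trans {X : Type} {T T' : Type*} [Group T] [Group T'] {r : ℕ} (h : PresOn X T r) (e : T ≃* T') :
    PresOn X T' r := by
  obtain ⟨v, L, hlen, hv, hgen, huniv⟩ := h
  refine ⟨fun x => e (v x), L, hlen, fun w hw => ?_, ?_, fun G _ f hf => ?_⟩
  · rw [← hom_lift e.toMonoidHom (v := v) (f := fun x => e (v x)) (fun x => rfl), hv w hw, map_one]
  · rw [show Set.range (fun x => e (v x)) = e.toMonoidHom '' Set.range v by rw [← Set.range_comp]; rfl,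
      ← MonoidHom.map_closure, hgen, Subgroup.map_top_of_surjective _ e.surjective]
  · obtain ⟨ψ, hψ⟩ := huniv G f hf
    exact ⟨ψ.comp e.symm.toMonoidHom, fun x => by simp [hψ]⟩

variable {F : Type*} [Field F] [Fintype F] {N : ℕ}

theorem commute_inSet {G : Type*} [Group G] (φ : SLg N F →* G) (z : G) {q r : Fin N} {g1 g2 : SLg N F}
    (hg : Subgroup.closure ({g1, g2} : Set (SLg N F)) = Subgroup.closure (inSet q r))
    (h1 : Commute z (φ g1)) (h2 : Commute z (φ g2)) :
    ∀ a b, a ≠ b → InC q r a b → ∀ t, Commute z (φ (el a b t)) := by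
  intro a b hab hC t
  have hle : Subgroup.closure (inSet q r) ≤ (Subgroup.centralizer {z}).comap φ := by
    rw [← hg, Subgroup.closure_le]
    rintro g (rfl | rfl) <;>
      simp only [SetLike.mem_coe, Subgroup.mem_comap, Subgroup.mem_centralizer_singleton_iff]
    exacts [h1.eq.symm, h2.eq.symm]
  exact (Subgroup.mem_centralizer_singleton_iff.1 (hle (Subgroup.subset_closure ⟨a, b, hab, hC, t, rfl⟩))).symm

theorem commute_of_inSet {G : Type*} [Group G] (φ : SLg N F →* G) (z : G) {q r : Fin N} {g1 g2 : SLg N F}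
    (hg : Subgroup.closure ({g1, g2} : Set (SLg N F)) = Subgroup.closure (inSet q r))
    (h : ∀ a b, a ≠ b → InC q r a b → ∀ t, Commute z (φ (el a b t))) :
    Commute z (φ g1) ∧ Commute z (φ g2) := by
  have hle : Subgroup.closure (inSet q r) ≤ (Subgroup.centralizer {z}).comap φ := by
    rw [Subgroup.closure_le]
    rintro g ⟨a, b, hab, hC, t, rfl⟩
    simp only [SetLike.mem_coe, Subgroup.mem_comap, Subgroup.mem_centralizer_singleton_iff]
    exact (h a b hab hC t).eq.symm
  rw [← hg] at hle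
  exact ⟨(Subgroup.mem_centralizer_singleton_iff.1 (hle (Subgroup.subset_closure (Set.mem_insert _ _)))).symm,
    (Subgroup.mem_centralizer_singleton_iff.1
      (hle (Subgroup.subset_closure (Set.mem_insert_of_mem _ rfl)))).symm⟩

theorem lift_word {X : Type} {S : Type*} [Group S] {v : X → S} (hgen : Subgroup.closure (Set.range v) = ⊤)
    {G : Type*} [Group G] (f : X ⊕ Unit → G) (ψ : S →* G) (h : ∀ z, ψ (v z) = f (Sum.inl z)) (g : S) :
    FreeGroup.lift f (FreeGroup.lift (fun z => FreeGroup.of (Sum.inl z)) (exists_word hgen g).choose) = ψ g := by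
  rw [lift_map_gen, ← hom_lift ψ (v := v) (f := fun z => f (Sum.inl z)) h, (exists_word hgen g).choose_spec]

open scoped commutatorElement in
/-- one more generator and six more relations -/
theorem presOn_elem (hN : 4 ≤ N) {X : Type} {k : ℕ}
    (h : PresOn X (Matrix.SpecialLinearGroup (Fin N) F) k) :
    PresOn (X ⊕ Unit) ↥(plusForm F N).elemGroup (k + 6) := by
  classical
  obtain ⟨vS, L, hlen, hkS, hgenS, huniv⟩ := h
  haveI : Finite (GL (Fin N ⊕ Fin N) F) := Finite.of_injective _ Units.val_injective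
  let p0 : Fin N := ⟨0, by omega⟩
  let p : Fin N := ⟨1, by omega⟩
  let q : Fin N := ⟨2, by omega⟩
  let r : Fin N := ⟨3, by omega⟩
  obtain ⟨Φ0, hΦ0⟩ := exists_model (F := F) hN
  obtain ⟨x0, hX, htop, hel, hS, hR⟩ := hΦ0 p0 p q r (by simp [p0, p]) (by simp [p0, q]) (by simp [p0, r])
    (by simp [p, q]) (by simp [p, r]) (by simp [q, r])
  obtain ⟨a1, a2, ha⟩ := exists_pair_InC (F := F) hN hX.nqr
  obtain ⟨b1, b2, hb⟩ := exists_pair_InC (F := F) hN hX.npr
  let inl' : FreeGroup X →* FreeGroup (X ⊕ Unit) := FreeGroup.lift fun z => FreeGroup.of (Sum.inl z)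
  let W : SLg N F → FreeGroup (X ⊕ Unit) := fun g => inl' (exists_word hgenS g).choose
  let ξ : FreeGroup (X ⊕ Unit) := FreeGroup.of (Sum.inr ())
  let L' : List (FreeGroup (X ⊕ Unit)) := L.map inl' ++
    [⁅ξ, W a1⁆, ⁅ξ, W a2⁆, ξ * W (wq p q) * ξ * (W (wq p q) * ξ * W (wq p q))⁻¹,
      ⁅ξ * W (el p q 1) * ξ⁻¹, W b1⁆, ⁅ξ * W (el p q 1) * ξ⁻¹, W b2⁆,
      ξ * W (hq p q) * ξ⁻¹ * (W (hq p r))⁻¹]
  let vT : X ⊕ Unit → ↥(plusForm F N).elemGroup := Sum.elim (fun z => Φ0 (vS z)) fun _ => x0
  have hkill : Kills vT L' := by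
    intro w hw
    rcases List.mem_append.1 hw with hw | hw
    · obtain ⟨u, hu, rfl⟩ := List.mem_map.1 hw
      rw [lift_map_gen, ← hom_lift Φ0 (v := vS) (f := fun z => vT (Sum.inl z)) (fun _ => rfl), hkS u hu, map_one]
    · have hw' : ∀ g, FreeGroup.lift vT (W g) = Φ0 g := lift_word hgenS vT Φ0 fun _ => rfl
      have hξ : FreeGroup.lift vT ξ = x0 := FreeGroup.lift_apply_of
      obtain ⟨c1, c2⟩ := commute_of_inSet Φ0 x0 ha hX.cx
      obtain ⟨d1, d2⟩ := commute_of_inSet Φ0 (x0 * Φ0 (el p q 1) * x0⁻¹) hb hX.cz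
      simp only [List.mem_cons, List.not_mem_nil, or_false] at hw
      rcases hw with rfl | rfl | rfl | rfl | rfl | rfl <;>
        simp only [map_commutatorElement, map_mul, map_inv, hw', hξ]
      · exact commutatorElement_eq_one_iff_commute.2 c1
      · exact commutatorElement_eq_one_iff_commute.2 c2
      · rw [mul_inv_eq_one]; exact hX.braid
      · exact commutatorElement_eq_one_iff_commute.2 d1
      · exact commutatorElement_eq_one_iff_commute.2 d2
      · rw [mul_inv_eq_one]; exact hX.kill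
  have hgen : Subgroup.closure (Set.range vT) = ⊤ := by
    rw [eq_top_iff, ← htop, Subgroup.closure_le]
    rintro g (⟨A, rfl⟩ | rfl)
    · obtain ⟨w, hw⟩ := exists_word hgenS A
      rw [← hw, hom_lift Φ0 (v := vS) (f := fun z => Φ0 (vS z)) (fun _ => rfl)]
      have : FreeGroup.lift (fun z => Φ0 (vS z)) w = FreeGroup.lift vT (inl' w) := (lift_map_gen Sum.inl vT w).symm
      rw [this]
      have hle : (FreeGroup.lift vT).range ≤ Subgroup.closure (Set.range vT) :=
        (FreeGroup.range_lift_eq_closure (f := vT)).le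
      exact hle ⟨_, rfl⟩
    · exact Subgroup.subset_closure ⟨Sum.inr (), rfl⟩
  refine (PresOn.of_bound vT L' hkill hgen fun G _ φ f hφ hf hk => ?_).mono ?_
  · obtain ⟨ψ, hψ⟩ := huniv G (fun z => f (Sum.inl z)) fun w hw => by
      rw [← lift_map_gen Sum.inl f w]; exact hk _ (List.mem_append_left _ (List.mem_map_of_mem hw))
    have hw' : ∀ g, FreeGroup.lift f (W g) = ψ g := lift_word hgenS f ψ hψ
    have hξ : FreeGroup.lift f ξ = f (Sum.inr ()) := FreeGroup.lift_apply_of
    set x := f (Sum.inr ())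
    have k6 := fun w (hw : w ∈ ([⁅ξ, W a1⁆, ⁅ξ, W a2⁆, ξ * W (wq p q) * ξ * (W (wq p q) * ξ * W (wq p q))⁻¹,
        ⁅ξ * W (el p q 1) * ξ⁻¹, W b1⁆, ⁅ξ * W (el p q 1) * ξ⁻¹, W b2⁆,
        ξ * W (hq p q) * ξ⁻¹ * (W (hq p r))⁻¹] : List (FreeGroup (X ⊕ Unit)))) => hk w (List.mem_append_right _ hw)
    simp only [List.mem_cons, List.not_mem_nil, or_false, forall_eq_or_imp, forall_eq, map_commutatorElement,
      map_mul, map_inv, hw', hξ, commutatorElement_eq_one_iff_commute, mul_inv_eq_one] at k6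
    obtain ⟨r1, r2, r3, r4, r5, r6⟩ := k6
    have E : Ext ψ x p0 p q r := ⟨hX.card, hX.n0p, hX.n0q, hX.n0r, hX.npq, hX.npr, hX.nqr,
      commute_inSet ψ x ha r1 r2, r3, commute_inSet ψ _ hb r4 r5, r6⟩
    have hgen' : Subgroup.closure (Set.range ψ ∪ {x}) = ⊤ := by
      rw [eq_top_iff, ← hf, Subgroup.closure_le]
      rintro g ⟨z | z, rfl⟩
      · exact Subgroup.subset_closure (Or.inl ⟨vS z, hψ z⟩)
      · exact Subgroup.subset_closure (Or.inr rfl)
    have hcomp : φ.comp ψ = Φ0 := MonoidHom.eq_of_eqOn_dense hgenS (by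
      rintro _ ⟨z, rfl⟩
      rw [MonoidHom.comp_apply, hψ, hφ]
      rfl)
    have hc : ∀ A, φ (ψ A) = Φ0 A := fun A => DFunLike.congr_fun hcomp A
    have hx : φ x = x0 := hφ _
    have hinj := E.injective hgen' ((plusForm F N).elemGroup.subtype.comp φ)
      (fun a b hab t => by
        rw [MonoidHom.comp_apply, Subgroup.coe_subtype, hc]; exact hel a b hab t)
      (fun t => by
        rw [MonoidHom.comp_apply, Subgroup.coe_subtype, map_mul, map_mul, map_inv, hc, hx]; exact hS t)
      (fun t => by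
        rw [MonoidHom.comp_apply, Subgroup.coe_subtype, map_mul, map_mul, map_inv, hc, hx]; exact hR t)
    have hφi : Function.Injective φ := fun a b e => hinj (by simp [e])
    exact ⟨Finite.of_injective _ hφi, Nat.card_le_card_of_injective _ hφi⟩
  · simp only [L', List.length_append, List.length_map, List.length_cons, List.length_nil]
    omega

theorem central_eq (hN : 4 ≤ N) {g h : ↥(plusForm F N).elemGroup}
    (hg : g ∈ Subgroup.center _) (hh : h ∈ Subgroup.center _) (g1 : g ≠ 1) (h1 : h ≠ 1) : g = h := by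
  have key : ∀ {g : ↥(plusForm F N).elemGroup}, g ∈ Subgroup.center _ → g ≠ 1 → ∀ i,
      (g.1 : Matrix (Fin N ⊕ Fin N) (Fin N ⊕ Fin N) F) *ᵥ Pi.single i 1 = Pi.single i (-1) := by
    intro g hg g1 i
    obtain ⟨k, hk, hs⟩ := CfsgLib.SpinCover.central_scalar_any hN (HypForm.elemGroup_le_orth g.2)
      fun a b hab => congrArg Subtype.val
        (Subgroup.mem_center_iff.1 hg ⟨HypForm.opL hab 1, HypForm.opL_mem hab 1⟩)
    rcases mul_self_eq_one_iff.1 hk with rfl | rfl
    · refine absurd (Subtype.ext (Units.ext ?_)) g1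
      ext a b
      have := congrFun (hs b) a
      rw [mulVec_single_one] at this
      simpa [Pi.single_apply, Matrix.one_apply] using this
    · exact hs i
  refine Subtype.ext (Units.ext ?_)
  ext a b
  have := congrFun ((key hg g1 b).trans (key hh h1 b).symm) a
  rwa [mulVec_single_one, mulVec_single_one] at this

theorem omega_iso (hN : 4 ≤ N) :
    Nonempty (↥(Cfsg.Omega F (Cfsg.quadFormPlus N F)) ≃* ↥(plusForm F N).elemGroup) :=
  ⟨((MulEquiv.subgroupCongr (omega_eq (by omega))).trans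
    (Subgroup.subgroupOfEquivOfLe HypForm.elemGroup_le_orth) :
      ↥(_root_.commutator ↥(plusForm F N).orth) ≃* ↥(plusForm F N).elemGroup)⟩

/-- the two presentations -/
theorem presentations (hN : 4 ≤ N) {X : Type} {k : ℕ}
    (h : PresOn X (Matrix.SpecialLinearGroup (Fin N) F) k) :
    PresOn (X ⊕ Unit) ↥(Cfsg.Omega F (Cfsg.quadFormPlus N F)) (k + 6) ∧
      PresOn (X ⊕ Unit) (Cfsg.POmega F (Cfsg.quadFormPlus N F)) (k + 7) := by
  obtain ⟨e⟩ := omega_iso (F := F) hN
  have h1 := presOn_trans (presOn_elem hN h) e.symm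
  refine ⟨h1, ?_⟩
  have hc : ∀ g ∈ Subgroup.center ↥(Cfsg.Omega F (Cfsg.quadFormPlus N F)), e g ∈ Subgroup.center _ := fun g hg => by
    rw [Subgroup.mem_center_iff]
    intro y
    obtain ⟨z, rfl⟩ := e.surjective y
    rw [← map_mul, ← map_mul, Subgroup.mem_center_iff.1 hg z]
  obtain ⟨z, hz⟩ : ∃ z, Subgroup.center ↥(Cfsg.Omega F (Cfsg.quadFormPlus N F)) = Subgroup.normalClosure {z} := by
    by_cases hb : ∃ z ∈ Subgroup.center ↥(Cfsg.Omega F (Cfsg.quadFormPlus N F)), z ≠ 1
    · obtain ⟨z, hz, z1⟩ := hb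
      refine ⟨z, le_antisymm (fun g hg => ?_) (Subgroup.normalClosure_le_normal (by simpa using hz))⟩
      by_cases g1 : g = 1
      · rw [g1]; exact one_mem _
      · have := e.injective (central_eq hN (hc g hg) (hc z hz)
          (fun h => g1 (e.map_eq_one_iff.1 h)) (fun h => z1 (e.map_eq_one_iff.1 h)))
        rw [this]
        exact Subgroup.subset_normalClosure rfl
    · push Not at hb
      refine ⟨1, le_antisymm (fun g hg => by rw [hb g hg]; exact one_mem _)
        (Subgroup.normalClosure_le_normal (by simp))⟩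
  exact h1.quotient _ z hz

end CfsgLib.PlusPres
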