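import Cfsg.Agent.Lib.BoundedPres.PSL
import Cfsg.Agent.Lib.Linear.Simple

/-!
Two generators for a direct product of a special linear group with `SL_2` of the same field.
-/

set_option autoImplicit false

namespace CfsgLib.PlusPres

open CfsgLib.BoundedPres
open scoped MatrixGroups

variable {F : Type*} [Field F]

/-- a subdirect subgroup meeting the first factor in a normally generating element is everything -/
theorem eq_top_of_subdirect {A B : Type*} [Group A] [Group B] (H : Subgroup (A × B))
    (h1 : H.map (MonoidHom.fst A B) = ⊤) (h2 : H.map (MonoidHom.snd A B) = ⊤) {k : A}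
    (hk : (k, (1 : B)) ∈ H) (hN : ∀ N : Subgroup A, N.Normal → k ∈ N → N = ⊤) : H = ⊤ := by
  have hn : (H.comap (MonoidHom.inl A B)).Normal := ⟨fun a ha g => by
    obtain ⟨⟨g', c⟩, hg, rfl⟩ : g ∈ H.map (MonoidHom.fst A B) := h1 ▸ Subgroup.mem_top g
    simp only [Subgroup.mem_comap, MonoidHom.inl_apply] at ha ⊢
    have := H.mul_mem (H.mul_mem hg ha) (H.inv_mem hg)
    simpa using this⟩
  have htop := hN _ hn (by simpa using hk)
  have hall : ∀ a, (a, (1 : B)) ∈ H := fun a => by
    have : a ∈ H.comap (MonoidHom.inl A B) := htop ▸ Subgroup.mem_top a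
    simpa using this
  rw [eq_top_iff]
  rintro ⟨a, c⟩ -
  obtain ⟨⟨a', c'⟩, hg, rfl⟩ : c ∈ H.map (MonoidHom.snd A B) := h2 ▸ Subgroup.mem_top c
  have := H.mul_mem (hall (a * a'⁻¹)) hg
  simpa using this

theorem map_pair_fst {A B : Type*} [Group A] [Group B] (a b : A) (c d : B) :
    (Subgroup.closure ({(a, c), (b, d)} : Set (A × B))).map (MonoidHom.fst A B) =
      Subgroup.closure {a, b} := by
  rw [MonoidHom.map_closure]; simp [Set.image_insert_eq]

theorem map_pair_snd {A B : Type*} [Group A] [Group B] (a b : A) (c d : B) :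
    (Subgroup.closure ({(a, c), (b, d)} : Set (A × B))).map (MonoidHom.snd A B) =
      Subgroup.closure {c, d} := by
  rw [MonoidHom.map_closure]; simp [Set.image_insert_eq]

variable [Fintype F]

theorem SL2_gen_torus (w : Fˣ) (hgen : ∀ x : Fˣ, x ∈ Subgroup.zpowers w) (hsq : (w : F) * w ≠ 1) :
    Subgroup.closure ({PresentSL2.dSL w, PresentSL2.uu 1 * PresentSL2.wSL} : Set SL(2, F)) = ⊤ := by
  have hw : (w : F) ≠ 0 := w.ne_zero
  set H := Subgroup.closure ({PresentSL2.dSL w, PresentSL2.uu 1 * PresentSL2.wSL} : Set SL(2, F))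
  have hd : PresentSL2.dSL w ∈ H := Subgroup.subset_closure (by simp)
  have hb : PresentSL2.uu 1 * PresentSL2.wSL ∈ H := Subgroup.subset_closure (by simp)
  have hk : PresentSL2.uu (1 - (((w⁻¹ : Fˣ) : F) * ((w⁻¹ : Fˣ) : F))) ∈ H := by
    have hmem := H.mul_mem (H.mul_mem (H.mul_mem hb hd) (H.inv_mem hb)) hd
    have e : PresentSL2.uu (1 : F) * PresentSL2.wSL * PresentSL2.dSL w *
        (PresentSL2.uu (1 : F) * PresentSL2.wSL)⁻¹ * PresentSL2.dSL w =
        PresentSL2.uu (1 - (((w⁻¹ : Fˣ) : F) * ((w⁻¹ : Fˣ) : F))) := by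
      calc _ = PresentSL2.uu (1 : F) * (PresentSL2.wSL * PresentSL2.dSL w * PresentSL2.wSL⁻¹) *
            (PresentSL2.uu (1 : F))⁻¹ * PresentSL2.dSL w := by group
        _ = PresentSL2.uu (1 : F) * (PresentSL2.dSL w⁻¹ * (PresentSL2.uu (1 : F))⁻¹ * (PresentSL2.dSL w⁻¹)⁻¹) := by
          rw [PresentSL2.wSL_dSL, map_inv]; group
        _ = _ := by
          rw [show (PresentSL2.uu (1 : F))⁻¹ = PresentSL2.uu (-1 : F) by
            rw [inv_eq_iff_mul_eq_one, PresentSL2.uu_mul, add_neg_cancel, PresentSL2.uu_zero],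
            PresentSL2.dSL_uu, PresentSL2.uu_mul]
          congr 1
          ring
    rwa [e] at hmem
  have hne : 1 - (((w⁻¹ : Fˣ) : F) * ((w⁻¹ : Fˣ) : F)) ≠ 0 := by
    rw [Units.val_inv_eq_inv_val]
    refine sub_ne_zero.2 fun e => hsq ?_
    field_simp at e
    linear_combination e
  set k := 1 - (((w⁻¹ : Fˣ) : F) * ((w⁻¹ : Fˣ) : F))
  have hspan := exists_square_data w hgen {c | PresentSL2.uu (c * k) ∈ H}
    (by show PresentSL2.uu (0 * k) ∈ H; rw [zero_mul, PresentSL2.uu_zero]; exact one_mem H)
    (fun a ha b hb => by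
      show PresentSL2.uu ((a + b) * k) ∈ H
      rw [add_mul, ← PresentSL2.uu_mul]; exact H.mul_mem ha hb) (fun l => by
      have hl : PresentSL2.uu (((w : F) * w) ^ l * k) ∈ H := by
        induction l with
        | zero => rw [pow_zero, one_mul]; exact hk
        | succ l ih =>
          rw [pow_succ', mul_assoc, ← PresentSL2.dSL_uu]
          exact H.mul_mem (H.mul_mem hd ih) (H.inv_mem hd)
      refine ⟨hl, ?_⟩
      show PresentSL2.uu (-(((w : F) * w) ^ l) * k) ∈ H
      have h := H.inv_mem hl
      rwa [show (PresentSL2.uu (((w : F) * w) ^ l * k))⁻¹ = PresentSL2.uu (-(((w : F) * w) ^ l) * k) by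
        rw [inv_eq_iff_mul_eq_one, PresentSL2.uu_mul, ← add_mul, add_neg_cancel, zero_mul,
          PresentSL2.uu_zero]] at h)
  have hU : ∀ c, PresentSL2.uu c ∈ H := fun c => by
    have : c / k ∈ {c | PresentSL2.uu (c * k) ∈ H} := by rw [hspan]; exact Set.mem_univ _
    simpa [div_mul_cancel₀ _ hne] using this
  have hW : (PresentSL2.wSL : SL(2, F)) ∈ H := by
    have := H.mul_mem (H.inv_mem (hU 1)) hb
    rwa [inv_mul_cancel_left] at this
  have hle : Subgroup.closure {PresentSL2.uu (1 : F), PresentSL2.dSL w, PresentSL2.wSL} ≤ H := by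
    rw [Subgroup.closure_le]
    rintro x (rfl | rfl | rfl)
    exacts [hU 1, hd, hW]
  obtain ⟨p, hp⟩ := CharP.exists F
  haveI : Fact p.Prime := ⟨CharP.char_is_prime F p⟩
  rw [eq_top_iff]
  intro g _
  have key := PresentSL2.closure_eq_top w hgen fun x => ?_
  · exact hle (key ▸ Subgroup.mem_top g)
  · -- the unipotents lie in the closure of the three generators
    set K := Subgroup.closure {PresentSL2.uu (1 : F), PresentSL2.dSL w, PresentSL2.wSL}
    have hd' : PresentSL2.dSL w ∈ K := Subgroup.subset_closure (by simp)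
    have hall := exists_square_data w hgen {c | PresentSL2.uu c ∈ K}
      (by show PresentSL2.uu 0 ∈ K; rw [PresentSL2.uu_zero]; exact one_mem K)
      (fun a ha b hb => by show PresentSL2.uu (a + b) ∈ K; rw [← PresentSL2.uu_mul]; exact K.mul_mem ha hb)
      (fun l => by
        have hl : PresentSL2.uu (((w : F) * w) ^ l) ∈ K := by
          induction l with
          | zero => rw [pow_zero]; exact Subgroup.subset_closure (by simp)
          | succ l ih =>
            rw [pow_succ', ← PresentSL2.dSL_uu]
            exact K.mul_mem (K.mul_mem hd' ih) (K.inv_mem hd')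
        refine ⟨hl, ?_⟩
        show PresentSL2.uu (-(((w : F) * w) ^ l)) ∈ K
        have h := K.inv_mem hl
        rwa [show (PresentSL2.uu (((w : F) * w) ^ l))⁻¹ = PresentSL2.uu (-(((w : F) * w) ^ l)) by
          rw [inv_eq_iff_mul_eq_one, PresentSL2.uu_mul, add_neg_cancel, PresentSL2.uu_zero]] at h)
    have : x ∈ {c | PresentSL2.uu c ∈ K} := by rw [hall]; exact Set.mem_univ _
    exact this

omit [Fintype F] in
theorem val_uu (x : F) : (PresentSL2.uu x : SL(2, F)).1 = !![1, x; 0, 1] := rfl

omit [Fintype F] in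
theorem val_dSL (l : Fˣ) : (PresentSL2.dSL l : SL(2, F)).1 = !![(l : F), 0; 0, ((l⁻¹ : Fˣ) : F)] := rfl

omit [Fintype F] in
theorem transvection_mul_val {ι : Type*} [Fintype ι] [DecidableEq ι] {i j : ι} (h : i ≠ j) (c : F)
    (A : Matrix.SpecialLinearGroup ι F) (a b : ι) :
    (Matrix.SpecialLinearGroup.transvection h c * A).1 a b = A.1 a b + if a = i then c * A.1 j b else 0 := by
  rw [Matrix.SpecialLinearGroup.coe_mul]
  show (Matrix.transvection i j c * A.1) a b = _
  by_cases ha : a = i
  · subst ha; rw [if_pos rfl, Matrix.transvection_mul_apply_same]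
  · rw [if_neg ha, Matrix.transvection_mul_apply_of_ne _ _ _ _ ha, add_zero]

omit [Fintype F] in
theorem transvection_val {ι : Type*} [Fintype ι] [DecidableEq ι] {i j : ι} (h : i ≠ j) (c : F) (a b : ι) :
    (Matrix.SpecialLinearGroup.transvection h c).1 a b =
      (if a = b then 1 else 0) + if a = i then (if j = b then c else 0) else 0 := by
  have e := transvection_mul_val h c (1 : Matrix.SpecialLinearGroup ι F) a b
  rw [mul_one] at e
  rw [e, Matrix.SpecialLinearGroup.coe_one, Matrix.one_apply, Matrix.one_apply, mul_ite, mul_one, mul_zero]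

omit [Fintype F] in
theorem val_wSL : (PresentSL2.wSL : SL(2, F)).1 = !![(0 : F), 1; -1, 0] := rfl

/-- two copies of `SL_2` are generated by two elements -/
theorem SL2_prod_two_generated : ∃ g h : SL(2, F) × SL(2, F), Subgroup.closure ({g, h} : Set _) = ⊤ := by
  obtain ⟨w, hgen⟩ : ∃ w : Fˣ, ∀ x : Fˣ, x ∈ Subgroup.zpowers w := IsCyclic.exists_generator
  by_cases hsq : (w : F) * w = 1
  · -- at most three elements
    have hF : ∀ x : F, x = 0 ∨ x = 1 ∨ x = -1 := fun x => by
      by_cases hx : x = 0
      · exact Or.inl hx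
      obtain ⟨r, hr⟩ := CfsgLib.PresentSL3.exists_pow_eq hgen (Units.mk0 x hx)
      have hc' : x = (w : F) ^ r := by rw [← Units.val_pow_eq_pow_val, hr, Units.val_mk0]
      exact Or.inr (mul_self_eq_one_iff.1 (by rw [hc', ← mul_pow, hsq, one_pow]))
    set u : SL(2, F) := PresentSL2.uu 1 with hu
    have key : ∀ K : Subgroup SL(2, F), u ∈ K → PresentSL2.wSL ∈ K → K = ⊤ := by
      intro K hu' hw'
      have hU : ∀ x : F, PresentSL2.uu x ∈ Subgroup.closure {PresentSL2.uu (1 : F), PresentSL2.dSL w, PresentSL2.wSL} :=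
        fun x => by
          rcases hF x with rfl | rfl | rfl
          · rw [PresentSL2.uu_zero]; exact one_mem _
          · exact Subgroup.subset_closure (by simp)
          · rw [show PresentSL2.uu (-1 : F) = (PresentSL2.uu (1 : F))⁻¹ by
              rw [eq_inv_iff_mul_eq_one, PresentSL2.uu_mul, neg_add_cancel, PresentSL2.uu_zero]]
            exact inv_mem (Subgroup.subset_closure (by simp))
      have hd : PresentSL2.dSL w ∈ K := by
        rcases mul_self_eq_one_iff.1 hsq with e | e
        · rw [show w = 1 from Units.ext e, map_one]; exact one_mem _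
        · rw [show w = -1 from Units.ext e, ← PresentSL2.wSL_sq]; exact mul_mem hw' hw'
      rw [eq_top_iff, ← PresentSL2.closure_eq_top w hgen hU, Subgroup.closure_le]
      rintro g (rfl | rfl | rfl)
      exacts [hu', hd, hw']
    -- a partner of the transvection of coprime order
    obtain ⟨s, n, hs, hun, hsg⟩ : ∃ (s : SL(2, F)) (n : ℕ), s ^ n = 1 ∧ u ^ n = u ∧
        Subgroup.closure {u, s} = ⊤ := by
      by_cases h2 : (2 : F) = 0
      · refine ⟨u * PresentSL2.wSL, 3, ?_, ?_, key _ (Subgroup.subset_closure (by simp)) ?_⟩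
        · apply Subtype.ext
          simp only [pow_succ, pow_zero, one_mul, Matrix.SpecialLinearGroup.coe_mul, Matrix.SpecialLinearGroup.coe_one,
            hu, val_uu, val_wSL]
          ext i j
          fin_cases i <;> fin_cases j <;> simp
        · rw [hu, PresentSL2.uu_pow]; congr 1
          rw [nsmul_eq_mul, mul_one]; push_cast; linear_combination h2
        · have := mul_mem (inv_mem (Subgroup.subset_closure (show u ∈ ({u, u * PresentSL2.wSL} : Set SL(2, F)) by simp)))
            (Subgroup.subset_closure (show u * PresentSL2.wSL ∈ ({u, u * PresentSL2.wSL} : Set SL(2, F)) by simp))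
          rwa [inv_mul_cancel_left] at this
      · have h3 : (3 : F) = 0 := by
          rcases hF 2 with e | e | e
          · exact absurd e h2
          · exact absurd (show (1 : F) = 0 by linear_combination e) one_ne_zero
          · linear_combination e
        refine ⟨PresentSL2.wSL, 4, ?_, ?_, key _ (Subgroup.subset_closure (by simp))
          (Subgroup.subset_closure (by simp))⟩
        · apply Subtype.ext
          simp only [pow_succ, pow_zero, one_mul, Matrix.SpecialLinearGroup.coe_mul, Matrix.SpecialLinearGroup.coe_one,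
            val_wSL]
          ext i j
          fin_cases i <;> fin_cases j <;> simp
        · rw [hu, PresentSL2.uu_pow]; congr 1
          rw [nsmul_eq_mul, mul_one]; push_cast; linear_combination h3
    refine ⟨(u, s), (s, u), eq_top_of_subdirect _ ?_ ?_ (k := u) ?_ fun N hN hN' => ?_⟩
    · rw [map_pair_fst, hsg]
    · rw [map_pair_snd, Set.pair_comm, hsg]
    · have h := pow_mem (Subgroup.subset_closure
        (show (u, s) ∈ ({(u, s), (s, u)} : Set (SL(2, F) × SL(2, F))) by simp)) n
      rwa [Prod.pow_mk, hs, hun] at h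
    · refine key N hN' ?_
      have hl : PresentSL2.wSL * u⁻¹ * PresentSL2.wSL⁻¹ ∈ N := hN.conj_mem _ (inv_mem hN') _
      have e : (PresentSL2.wSL : SL(2, F)) = u * (PresentSL2.wSL * u * PresentSL2.wSL⁻¹) * u := by
        rw [eq_comm, hu, mul_assoc (PresentSL2.uu 1)]
        apply Subtype.ext
        simp only [Matrix.SpecialLinearGroup.coe_mul, Matrix.SpecialLinearGroup.coe_inv, val_uu, val_wSL,
          Matrix.adjugate_fin_two_of]
        ext i j
        fin_cases i <;> fin_cases j <;> simp
      rw [e]
      exact mul_mem (mul_mem hN' (hN.conj_mem _ hN' _)) hN'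
  · have hS := SL2_gen_torus w hgen hsq
    set t : SL(2, F) := PresentSL2.dSL w
    set b : SL(2, F) := PresentSL2.uu 1 * PresentSL2.wSL with hb
    have hb3 : b ^ 3 = 1 := by
      apply Subtype.ext
      simp only [pow_succ, pow_zero, one_mul, Matrix.SpecialLinearGroup.coe_mul, Matrix.SpecialLinearGroup.coe_one,
        hb, val_uu, val_wSL]
      ext i j
      fin_cases i <;> fin_cases j <;> simp
    refine ⟨(t, t), (t * b, b), eq_top_of_subdirect _ ?_ ?_ (k := (t * b) ^ 3) ?_ fun N hN hk => ?_⟩
    · rw [map_pair_fst, eq_top_iff, ← hS, Subgroup.closure_le]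
      rintro g (rfl | rfl)
      · exact Subgroup.subset_closure (by simp)
      · have := mul_mem (inv_mem (Subgroup.subset_closure (show t ∈ ({t, t * b} : Set SL(2, F)) by simp)))
          (Subgroup.subset_closure (show t * b ∈ ({t, t * b} : Set SL(2, F)) by simp))
        rwa [inv_mul_cancel_left] at this
    · rw [map_pair_snd, hS]
    · have h := pow_mem (Subgroup.subset_closure
        (show (t * b, b) ∈ ({(t, t), (t * b, b)} : Set (SL(2, F) × SL(2, F))) by simp)) 3
      rwa [Prod.pow_mk, hb3] at h
    · refine (CfsgLib.Linear.SL_normal_le_center_or_eq_top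
        (Or.inr ⟨(w : F), w.ne_zero, by rwa [pow_two]⟩) N (hN := hN)).resolve_left fun hle => hsq ?_
      obtain ⟨r, -, hr⟩ := Matrix.SpecialLinearGroup.mem_center_iff.1 (hle hk)
      have h01 : ((t * b) ^ 3).1 0 1 = 0 := by rw [← hr]; simp
      have ev : ((t * b) ^ 3).1 0 1 = (w : F) * ((w : F) * w - 1) := by
        simp only [pow_succ, pow_zero, one_mul, Matrix.SpecialLinearGroup.coe_mul, hb, val_uu, val_wSL]
        simp [t, val_dSL, Matrix.mul_apply, Fin.sum_univ_two]
        ring_nf
      rw [ev] at h01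
      exact sub_eq_zero.1 ((mul_eq_zero.1 h01).resolve_left w.ne_zero)

/-- a product with a large special linear group is generated by two elements -/
theorem SL_prod_two_generated (m : ℕ) : ∃ g h : SL(3 + m, F) × SL(2, F), Subgroup.closure ({g, h} : Set _) = ⊤ := by
  obtain ⟨a, b, hab⟩ := SL_two_generated (F := F) m
  obtain ⟨⟨c, c'⟩, ⟨d, d'⟩, hcd⟩ := SL2_prod_two_generated (F := F)
  have hV : Subgroup.closure ({c, d} : Set SL(2, F)) = ⊤ := by
    rw [← map_pair_fst c d c' d', hcd, Subgroup.map_top_of_surjective _ Prod.fst_surjective]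
  set H := Subgroup.closure ({(a, c), (b, d)} : Set (SL(3 + m, F) × SL(2, F))) with hH
  have h1 : H.map (MonoidHom.fst _ _) = ⊤ := by rw [hH, map_pair_fst, hab]
  have h2 : H.map (MonoidHom.snd _ _) = ⊤ := by rw [hH, map_pair_snd, hV]
  haveI : Nontrivial (Fin (3 + m)) := Fin.nontrivial_iff_two_le.2 (by omega)
  by_cases hz : ∀ k, (k, (1 : SL(2, F))) ∈ H → k ∈ Subgroup.center SL(3 + m, F)
  · exfalso
    classical
    -- five parameters modulo scalars against four entries
    have hcard : Fintype.card F ^ 5 ≤ Fintype.card F ^ 4 := by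
      let e : Fin 3 → Fin (3 + m) := Fin.castAdd m
      have he : ∀ i j, i ≠ j → e i ≠ e j := fun i j h => (Fin.castAdd_injective 3 m).ne h
      have n01 := he 0 1 (by decide)
      have n02 := he 0 2 (by decide)
      have n12 := he 1 2 (by decide)
      let M : F × F × F × F × F → SL(3 + m, F) := fun ⟨p, q, r, s, t⟩ =>
        Matrix.SpecialLinearGroup.transvection n01.symm p * Matrix.SpecialLinearGroup.transvection n02.symm q *
        (Matrix.SpecialLinearGroup.transvection n12 r * Matrix.SpecialLinearGroup.transvection n02 s *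
          Matrix.SpecialLinearGroup.transvection n01 t)
      choose lift hlift using fun x => (h1 ▸ Subgroup.mem_top (M x) : M x ∈ H.map (MonoidHom.fst _ _))
      let f : F × F × F × F × F → (Fin 2 → Fin 2 → F) := fun x => ((lift x).2 : SL(2, F)).1
      have hf : Function.Injective f := by
        intro x y hxy
        have e2 : (lift x).2 = (lift y).2 := Subtype.ext hxy
        have hmem := H.mul_mem (hlift x).1 (H.inv_mem (hlift y).1)
        have hk : M x * (M y)⁻¹ ∈ Subgroup.center SL(3 + m, F) := hz _ (by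
          have ex : (lift x * (lift y)⁻¹) = (M x * (M y)⁻¹, 1) := Prod.ext (by
            rw [← (hlift x).2, ← (hlift y).2]; rfl) (by simp [e2])
          rwa [ex] at hmem)
        obtain ⟨z, -, hz'⟩ := Matrix.SpecialLinearGroup.mem_center_iff.1 hk
        have hMM : (M x).1 = Matrix.scalar (Fin (3 + m)) z * (M y).1 := by
          rw [hz', ← Matrix.SpecialLinearGroup.coe_mul, inv_mul_cancel_right]
        obtain ⟨p, q, r, s, t⟩ := x
        obtain ⟨p', q', r', s', t'⟩ := y
        have k := fun i j => congrFun (congrFun hMM (e i)) (e j)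
        have k00 := k 0 0
        have k01 := k 0 1
        have k02 := k 0 2
        have k10 := k 1 0
        have k20 := k 2 0
        have k12 := k 1 2
        have hd : ∀ (z : F) (A : Matrix (Fin (3 + m)) (Fin (3 + m)) F) i j,
            (Matrix.scalar (Fin (3 + m)) z * A) i j = z * A i j := fun z A i j => Matrix.diagonal_mul _ _ _ _
        simp only [M, hd, mul_assoc, transvection_mul_val, transvection_val] at k00 k01 k02 k10 k20 k12
        simp [n01, n02, n12, n01.symm, n02.symm, n12.symm] at k00 k01 k02 k10 k20 k12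
        rw [← k00, one_mul] at k01 k02 k10 k20 k12
        subst k01 k02 k10 k20
        rw [add_left_inj] at k12
        subst k12
        rfl
      have := Fintype.card_le_of_injective f hf
      simpa [pow_succ, mul_assoc] using this
    exact absurd hcard (Nat.not_le.2 (Nat.pow_lt_pow_right Fintype.one_lt_card (by norm_num)))
  · push Not at hz
    obtain ⟨k, hk, hkc⟩ := hz
    exact ⟨(a, c), (b, d), eq_top_of_subdirect H h1 h2 hk fun N hN hkN =>
      (CfsgLib.Linear.SL_normal_le_center_or_eq_top
        (Or.inl (by rw [Fintype.card_fin]; omega)) N (hN := hN)).resolve_left fun h => hkc (h hkN)⟩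

end CfsgLib.PlusPres
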